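/-
Division algebras of prime degree: subalgebras, normalisers of Galois maximal subfields,
Wedderburn's argument in degree three.
-/
import Mathlib.FieldTheory.Galois.Basic
import Mathlib.FieldTheory.PurelyInseparable.Basic
import Mathlib.FieldTheory.IsSepClosed
import Mathlib.Algebra.Central.Basic
import Mathlib.Algebra.Algebra.Subalgebra.Lattice
import Mathlib.LinearAlgebra.FiniteDimensional.Basic
import Mathlib.Algebra.CharP.Lemmas
import Mathlib.Tactic

set_option linter.unusedSectionVars false
set_option linter.style.haveILetI false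

open Polynomial

namespace Groth.BddFin

variable {K A : Type*} [Field K] [DivisionRing A] [Algebra K A]

/-- Dimensions of subalgebras of a finite-dimensional division algebra divide the dimension. -/
theorem finrank_subalgebra_dvd [FiniteDimensional K A] (B : Subalgebra K A) :
    Module.finrank K B ∣ Module.finrank K A := by
  haveI : IsDomain B := inferInstance
  letI : DivisionRing B := divisionRingOfFiniteDimensional K B
  exact ⟨Module.finrank B A, (Module.finrank_mul_finrank K B A).symm⟩

section PrimeDegree

variable [Algebra.IsCentral K A] [FiniteDimensional K A] {p : ℕ} [hp : Fact p.Prime]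

theorem finrank_subalgebra_cases (hA : Module.finrank K A = p ^ 2) (B : Subalgebra K A) :
    Module.finrank K B = 1 ∨ Module.finrank K B = p ∨ Module.finrank K B = p ^ 2 := by
  obtain ⟨i, hi, h⟩ := (Nat.dvd_prime_pow hp.out).mp (hA ▸ finrank_subalgebra_dvd B)
  interval_cases i <;> simp_all

omit [Algebra.IsCentral K A] hp in
theorem eq_top_of_finrank_eq (B : Subalgebra K A) (h : Module.finrank K B = Module.finrank K A) :
    B = ⊤ :=
  Subalgebra.toSubmodule_injective (by
    rw [Algebra.top_toSubmodule]
    exact Submodule.eq_top_of_finrank_eq h)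

theorem adjoin_commute (x : A) {a b : A} (ha : a ∈ Algebra.adjoin K {x})
    (hb : b ∈ Algebra.adjoin K {x}) : Commute a b := by
  refine Algebra.commute_of_mem_adjoin_singleton_of_commute hb ?_
  exact (Algebra.commute_of_mem_adjoin_singleton_of_commute ha (Commute.refl x)).symm

theorem one_lt_finrank_adjoin {x : A} (hx : x ∉ (algebraMap K A).range) :
    1 < Module.finrank K (Algebra.adjoin K ({x} : Set A)) := by
  by_contra h
  have hpos : 0 < Module.finrank K (Algebra.adjoin K ({x} : Set A)) := Module.finrank_pos
  have h1 : Algebra.adjoin K ({x} : Set A) = ⊥ := Subalgebra.eq_bot_of_finrank_one (by omega)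
  have : x ∈ (⊥ : Subalgebra K A) := h1 ▸ Algebra.subset_adjoin rfl
  exact hx (by rw [Algebra.mem_bot] at this; exact this)

theorem finrank_adjoin_singleton (hA : Module.finrank K A = p ^ 2) {x : A}
    (hx : x ∉ (algebraMap K A).range) :
    Module.finrank K (Algebra.adjoin K ({x} : Set A)) = p := by
  have h1 := one_lt_finrank_adjoin hx
  rcases finrank_subalgebra_cases hA (Algebra.adjoin K ({x} : Set A)) with h | h | h
  · omega
  · exact h
  · exfalso
    have ht := eq_top_of_finrank_eq _ (h.trans hA.symm)
    apply hx
    have : x ∈ Subalgebra.center K A := Subalgebra.mem_center_iff.mpr fun z =>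
      adjoin_commute x (ht ▸ Algebra.mem_top) (Algebra.subset_adjoin rfl)
    rw [Algebra.IsCentral.center_eq_bot, Algebra.mem_bot] at this
    exact this

theorem adjoin_pair_eq_top (hA : Module.finrank K A = p ^ 2) {x y : A}
    (hx : x ∉ (algebraMap K A).range) (hy : y ∉ Algebra.adjoin K ({x} : Set A)) :
    Algebra.adjoin K ({x, y} : Set A) = ⊤ := by
  have hlt : Algebra.adjoin K ({x} : Set A) < Algebra.adjoin K ({x, y} : Set A) :=
    lt_of_le_of_ne (Algebra.adjoin_mono (by simp)) fun h =>
      hy (h ▸ Algebra.subset_adjoin (by simp))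
  have h1 : Module.finrank K (Algebra.adjoin K ({x} : Set A)) <
      Module.finrank K (Algebra.adjoin K ({x, y} : Set A)) :=
    Submodule.finrank_lt_finrank_of_lt (Subalgebra.toSubmodule.lt_iff_lt.mpr hlt)
  rw [finrank_adjoin_singleton hA hx] at h1
  rcases finrank_subalgebra_cases hA (Algebra.adjoin K ({x, y} : Set A)) with h | h | h
  · have := hp.out.two_le; omega
  · omega
  · exact eq_top_of_finrank_eq _ (h.trans hA.symm)

theorem adjoin_pair_eq_top_of_ne (hA : Module.finrank K A = p ^ 2) {x y : A} (h : x * y ≠ y * x) :
    Algebra.adjoin K ({x, y} : Set A) = ⊤ := by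
  refine adjoin_pair_eq_top hA ?_ fun hy => h (adjoin_commute x (Algebra.subset_adjoin rfl) hy)
  rintro ⟨c, rfl⟩
  exact h (Algebra.commutes c y)

/-- The centralizer of a non-central element is the field it generates. -/
theorem mem_adjoin_of_commute (hA : Module.finrank K A = p ^ 2) {x z : A}
    (hx : x ∉ (algebraMap K A).range) (h : Commute x z) : z ∈ Algebra.adjoin K ({x} : Set A) := by
  by_contra hz
  have ht := adjoin_pair_eq_top hA hx hz
  apply hx
  have : x ∈ Subalgebra.center K A := Subalgebra.mem_center_iff.mpr fun w => by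
    have hw : w ∈ Algebra.adjoin K ({x, z} : Set A) := ht ▸ Algebra.mem_top
    refine (Algebra.commute_of_mem_adjoin_of_forall_mem_commute hw ?_).symm
    rintro b (rfl | rfl)
    · exact Commute.refl _
    · exact h
  rw [Algebra.IsCentral.center_eq_bot, Algebra.mem_bot] at this
  exact this

theorem mem_range_of_commute_pair (hA : Module.finrank K A = p ^ 2) {x y z : A}
    (h : x * y ≠ y * x) (hzx : Commute z x) (hzy : Commute z y) :
    z ∈ (algebraMap K A).range := by
  have ht := adjoin_pair_eq_top_of_ne hA h
  have : z ∈ Subalgebra.center K A := Subalgebra.mem_center_iff.mpr fun w => by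
    have hw : w ∈ Algebra.adjoin K ({x, y} : Set A) := ht ▸ Algebra.mem_top
    refine (Algebra.commute_of_mem_adjoin_of_forall_mem_commute hw ?_).symm
    rintro b (rfl | rfl)
    · exact hzx
    · exact hzy
  rw [Algebra.IsCentral.center_eq_bot, Algebra.mem_bot] at this
  exact this

theorem exists_not_commute {x : A} (hx : x ∉ (algebraMap K A).range) :
    ∃ z : A, z * x ≠ x * z := by
  by_contra h
  push Not at h
  have : x ∈ Subalgebra.center K A := Subalgebra.mem_center_iff.mpr h
  rw [Algebra.IsCentral.center_eq_bot, Algebra.mem_bot] at this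
  exact hx this

theorem natDegree_minpoly (hA : Module.finrank K A = p ^ 2) {x : A}
    (hx : x ∉ (algebraMap K A).range) : (minpoly K x).natDegree = p := by
  rw [← finrank_adjoin_singleton hA hx]
  let B := Algebra.adjoin K ({x} : Set A)
  haveI : Fact (Irreducible (minpoly K x)) := ⟨minpoly.irreducible (IsIntegral.of_finite K x)⟩
  let φ : AdjoinRoot (minpoly K x) →ₐ[K] A := Ideal.Quotient.liftₐ _ (aeval x) fun q hq => by
    obtain ⟨r, rfl⟩ := Ideal.mem_span_singleton.mp hq
    simp
  have hφr : φ.range = B := by
    rw [show B = Algebra.adjoin K ({x} : Set A) from rfl, Algebra.adjoin_singleton_eq_range_aeval]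
    ext z
    constructor
    · rintro ⟨q, rfl⟩
      obtain ⟨q, rfl⟩ := Ideal.Quotient.mk_surjective q
      exact ⟨q, rfl⟩
    · rintro ⟨q, rfl⟩; exact ⟨Ideal.Quotient.mk _ q, rfl⟩
  let e : AdjoinRoot (minpoly K x) ≃ₗ[K] B :=
    ((AlgEquiv.ofInjective φ φ.toRingHom.injective).trans (Subalgebra.equivOfEq _ _ hφr)).toLinearEquiv
  rw [← e.finrank_eq, (AdjoinRoot.powerBasis (minpoly.ne_zero (IsIntegral.of_finite K x))).finrank,
    AdjoinRoot.powerBasis_dim]

/-- An element some `p`-th power of which is central, but which is not, is inseparable. -/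
theorem not_isSeparable_of_pow_mem [CharP K p] {x : A}
    (hxp : x ^ p ∈ (algebraMap K A).range) (hx : x ∉ (algebraMap K A).range) :
    ¬ IsSeparable K x := by
  intro hs
  obtain ⟨c, hc⟩ := hxp
  obtain ⟨L, _, _, _⟩ : ∃ (L : Type _) (_ : Field L) (_ : Algebra K L), IsAlgClosed L :=
    ⟨AlgebraicClosure K, inferInstance, inferInstance, inferInstance⟩
  haveI : CharP L p := charP_of_injective_algebraMap (algebraMap K L).injective p
  obtain ⟨s, hs'⟩ := IsAlgClosed.exists_pow_nat_eq (algebraMap K L c) hp.out.pos
  have hdvd : minpoly K x ∣ X ^ p - C c := minpoly.dvd K x (by simp [hc])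
  have hmap : (minpoly K x).map (algebraMap K L) ∣ (X - C s) ^ p := by
    rw [sub_pow_char_of_commute _ (commute_X (C s)).symm.symm, ← C_pow, hs']
    simpa [Polynomial.map_sub] using Polynomial.map_dvd (algebraMap K L) hdvd
  have hirr := minpoly.irreducible (IsIntegral.of_finite K x) (A := K)
  obtain ⟨i, _, hi⟩ := (dvd_prime_pow (prime_X_sub_C s) p).mp hmap
  have hsq : Squarefree ((minpoly K x).map (algebraMap K L)) :=
    (Polynomial.Separable.map hs).squarefree
  have hi1 : i ≤ 1 := by
    by_contra hlt
    refine (prime_X_sub_C s).not_unit (hsq (X - C s) ?_)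
    refine dvd_trans ?_ hi.symm.dvd
    rw [← pow_two]; exact pow_dvd_pow _ (by omega)
  have hdeg : (minpoly K x).degree = 1 := by
    have h1 := natDegree_le_of_dvd hi.dvd (pow_ne_zero _ (X_sub_C_ne_zero s))
    rw [natDegree_map, natDegree_pow, natDegree_X_sub_C, mul_one] at h1
    have h2 := hirr.natDegree_pos
    exact (degree_eq_iff_natDegree_eq_of_pos one_pos).mpr (by omega)
  exact hx (minpoly.degree_eq_one_iff.mp hdeg)

/-- A Galois maximal subfield is normalised by some inseparable element. -/
theorem exists_inseparable_of_galois [CharP K p] (hA : Module.finrank K A = p ^ 2)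
    {L : Type*} [Field L] [Algebra K L] [IsGalois K L] (hL : Module.finrank K L = p)
    (ι : L →ₐ[K] A) : ∃ v : A, ¬ IsSeparable K v := by
  haveI : FiniteDimensional K L := Module.finite_of_finrank_pos (hL ▸ hp.out.pos)
  obtain ⟨l, hl⟩ : ∃ l : L, l ∉ (algebraMap K L).range := by
    by_contra h
    push Not at h
    have : Module.finrank K L ≤ 1 := finrank_le_one (1 : L) fun l => by
      obtain ⟨c, rfl⟩ := h l; exact ⟨c, by simp [Algebra.smul_def]⟩
    have := hp.out.two_le; omega
  set w := ι l with hw
  have hwK : w ∉ (algebraMap K A).range := by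
    rintro ⟨c, hc⟩; exact hl ⟨c, ι.toRingHom.injective ((ι.commutes c).trans hc)⟩
  have hint : IsIntegral K l := IsIntegral.of_finite K l
  obtain ⟨roots, hroots⟩ : ∃ rs : Multiset L,
      (minpoly K l).map (algebraMap K L) = (rs.map fun r => X - C r).prod :=
    ⟨_, (IsGalois.splits K l).eq_prod_roots_of_monic ((minpoly.monic hint).map _)⟩
  letI : Module L A := Module.compHom A ι.toRingHom
  haveI : SMulCommClass L L A := smulCommClass_self L A
  let T : Module.End L A :=
    { toFun := fun y => y * w
      map_add' := fun _ _ => add_mul _ _ _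
      map_smul' := fun c y => mul_assoc (ι c) y w }
  have hTpow : ∀ (n : ℕ) (y : A), (T ^ n) y = y * w ^ n := by
    intro n
    induction n with
    | zero => intro y; simp
    | succ n ih => intro y; rw [pow_succ', Module.End.mul_apply, ih]; simp [T, mul_assoc, pow_succ]
  have haeval : ∀ (q : K[X]) (y : A),
      aeval T (q.map (algebraMap K L)) y = y * aeval w q := by
    intro q y
    induction q using Polynomial.induction_on' with
    | add a b ha hb => simp [ha, hb, mul_add]
    | monomial n c =>
      rw [map_monomial, aeval_monomial, aeval_monomial, Module.algebraMap_end_eq_smul_id,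
        Module.End.mul_apply, LinearMap.smul_apply, LinearMap.id_apply, hTpow]
      show ι (algebraMap K L c) * (y * w ^ n) = _
      rw [ι.commutes, ← mul_assoc, Algebra.commutes c y, mul_assoc]
  by_contra hcon
  push Not at hcon
  have hinj : ∀ r : L, r ≠ l → (minpoly K l).aeval r = 0 →
      ∀ y : A, y * w = ι r * y → y = 0 := by
    intro r hrl hr y hy
    by_contra hy0
    obtain ⟨σ, hσ⟩ := minpoly.exists_algEquiv_of_root' (K := K) (x := r) (y := l)
      (Algebra.IsAlgebraic.isAlgebraic l) hr
    have htop : Algebra.adjoin K ({l} : Set L) = ⊤ := by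
      have h : IntermediateField.adjoin K ({l} : Set L) = ⊤ := by
        have hpr : (Module.finrank K L).Prime := hL ▸ hp.out
        haveI := IntermediateField.isSimpleOrder_of_finrank_prime K L hpr
        rcases IsSimpleOrder.eq_bot_or_eq_top (IntermediateField.adjoin K ({l} : Set L)) with h | h
        · exfalso; apply hl
          have := h ▸ IntermediateField.mem_adjoin_simple_self K l
          exact IntermediateField.mem_bot.mp this
        · exact h
      rw [← IntermediateField.adjoin_simple_toSubalgebra_of_isAlgebraic
        (Algebra.IsAlgebraic.isAlgebraic l), h, IntermediateField.top_toSubalgebra]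
    have hconj : ∀ z : L, y * ι z = ι (σ z) * y := by
      intro z
      have hz : z ∈ Algebra.adjoin K ({l} : Set L) := htop ▸ Algebra.mem_top
      induction hz using Algebra.adjoin_induction with
      | mem b hb => rw [Set.mem_singleton_iff.mp hb, hσ]; exact hy
      | algebraMap c => simp [(Algebra.commutes c y).symm]
      | add a b _ _ ha hb => simp [mul_add, add_mul, ha, hb]
      | mul a b _ _ ha hb =>
        rw [map_mul, ← mul_assoc, ha, mul_assoc, hb, map_mul, map_mul, mul_assoc]
    have hpow : ∀ (n : ℕ) (z : L), y ^ n * ι z = ι ((σ ^ n) z) * y ^ n := by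
      intro n
      induction n with
      | zero => intro z; simp
      | succ n ih =>
        intro z
        rw [pow_succ y, mul_assoc, hconj, ← mul_assoc, ih, mul_assoc]
        congr 2
    have hord : σ ^ p = 1 := by
      rw [← hL, ← IsGalois.card_aut_eq_finrank K L]; exact pow_card_eq_one'
    have hcomm : Commute (y ^ p) w := by
      have := hpow p l
      rw [hord] at this
      exact this
    have hne : w * y ≠ y * w := fun h => hrl (ι.toRingHom.injective
      (mul_right_cancel₀ hy0 (h.trans hy)).symm)
    have hyp : y ^ p ∈ (algebraMap K A).range :=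
      mem_range_of_commute_pair hA hne hcomm ((Commute.refl y).pow_left p)
    have hyK : y ∉ (algebraMap K A).range := by
      rintro ⟨c, rfl⟩; exact hne (Algebra.commutes c w).symm
    exact not_isSeparable_of_pow_mem hyp hyK (hcon y)
  obtain ⟨z, hz⟩ := exists_not_commute hwK
  set y := z * w - w * z with hydef
  have hy0 : y ≠ 0 := sub_ne_zero.mpr hz
  have hlmem : l ∈ roots := by
    have h := congrArg (Polynomial.eval l) hroots
    rw [eval_map_algebraMap, minpoly.aeval, eval_multiset_prod, Multiset.map_map] at h
    obtain ⟨r, hr, hr0⟩ := Multiset.mem_map.mp (Multiset.prod_eq_zero_iff.mp h.symm)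
    simp [sub_eq_zero] at hr0
    exact hr0 ▸ hr
  have hnd : roots.Nodup := by
    have hsep : ((minpoly K l).map (algebraMap K L)).Separable :=
      Separable.map (IsGalois.separable K l)
    have := nodup_roots hsep
    rwa [hroots, roots_multiset_prod_X_sub_C] at this
  obtain ⟨rest, rfl⟩ := Multiset.exists_cons_of_mem hlmem
  have hprod : ∀ s : Multiset L, (∀ r ∈ s, r ≠ l ∧ (minpoly K l).aeval r = 0) →
      ∀ v : A, aeval T (s.map fun r => X - C r).prod v = 0 → v = 0 := by
    intro s
    induction s using Multiset.induction_on with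
    | empty => intro _ v hv; simpa using hv
    | cons r s ih =>
      intro hs v hv
      rw [Multiset.map_cons, Multiset.prod_cons, map_mul, Module.End.mul_apply] at hv
      refine ih (fun x hx => hs x (Multiset.mem_cons_of_mem hx)) v ?_
      refine hinj r (hs r (Multiset.mem_cons_self r s)).1 (hs r (Multiset.mem_cons_self r s)).2 _ ?_
      rw [map_sub, aeval_X, aeval_C, LinearMap.sub_apply, Module.algebraMap_end_apply,
        sub_eq_zero] at hv
      exact hv
  apply hy0
  refine hprod rest (fun r hr => ⟨fun e => (Multiset.nodup_cons.mp hnd).1 (e ▸ hr), ?_⟩) y ?_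
  · have h := congrArg (Polynomial.eval r) hroots
    rw [eval_map_algebraMap] at h
    rw [h, eval_multiset_prod]
    exact Multiset.prod_eq_zero (by simpa using Or.inr ⟨r, hr, sub_self r⟩)
  · have hy : y = aeval T (X - C l) z := by
      simp [hydef, T, Module.algebraMap_end_apply]
      rfl
    rw [hy, ← Module.End.mul_apply, ← map_mul, mul_comm, ← Multiset.prod_cons,
      ← Multiset.map_cons (fun r => X - C r), ← hroots, haeval, hw, aeval_algHom_apply,
      minpoly.aeval, map_zero, mul_zero]

end PrimeDegree

end Groth.BddFin
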