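/-
Elements of finite order in GL₂(ℤ).
-/
import Mathlib.LinearAlgebra.Matrix.GeneralLinearGroup.Defs
import Mathlib.LinearAlgebra.Matrix.Trace
import Mathlib.LinearAlgebra.Matrix.ToLinearEquiv
import Mathlib.LinearAlgebra.Matrix.Charpoly.Coeff
import Mathlib.GroupTheory.OrderOfElement
import Mathlib.Tactic

open Matrix

namespace Groth.BddFin

theorem sq_eq_two (M : Matrix (Fin 2) (Fin 2) ℤ) :
    M * M = M.trace • M - M.det • (1 : Matrix (Fin 2) (Fin 2) ℤ) := by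
  rw [Matrix.trace_fin_two, Matrix.det_fin_two]
  ext i j
  fin_cases i <;> fin_cases j <;>
    (simp only [Matrix.sub_apply, Matrix.smul_apply, Matrix.mul_apply, Fin.sum_univ_two,
      Matrix.one_apply, smul_eq_mul]; norm_num; ring)

theorem abs_det_of_pow_eq_one {M : Matrix (Fin 2) (Fin 2) ℤ} {n : ℕ} (hn : n ≠ 0)
    (h : M ^ n = 1) : |M.det| = 1 :=
  Int.isUnit_iff_abs_eq.mp <|
    IsUnit.of_pow_eq_one (by rw [← Matrix.det_pow, h, Matrix.det_one]) hn

theorem abs_trace_le_two {M : Matrix (Fin 2) (Fin 2) ℤ} {n : ℕ} (hn : n ≠ 0)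
    (h : M ^ n = 1) : |M.trace| ≤ 2 := by
  by_contra hlt
  push Not at hlt
  have hd := abs_det_of_pow_eq_one hn h
  have key : ∀ m : ℕ, |(M ^ m).trace| < |(M ^ (m + 1)).trace| ∧ 2 ≤ |(M ^ m).trace| := by
    intro m
    induction m with
    | zero => simp only [pow_zero, pow_one, Matrix.trace_one, Fintype.card_fin]; constructor <;> simpa using by omega
    | succ m ih =>
      have e : (M ^ (m + 2)).trace = M.trace * (M ^ (m + 1)).trace - M.det * (M ^ m).trace := by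
        have : M ^ (m + 2) = M.trace • M ^ (m + 1) - M.det • M ^ m := by
          rw [pow_succ, pow_succ, mul_assoc, sq_eq_two, mul_sub, mul_smul_comm, mul_smul_comm,
            mul_one]
        rw [this, Matrix.trace_sub, Matrix.trace_smul, Matrix.trace_smul, smul_eq_mul, smul_eq_mul]
      refine ⟨?_, by omega⟩
      rw [e]
      have h1 : 3 * |(M ^ (m + 1)).trace| ≤ |M.trace * (M ^ (m + 1)).trace| := by
        rw [abs_mul]; nlinarith [abs_nonneg (M ^ (m + 1)).trace]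
      have h2 : |M.det * (M ^ m).trace| = |(M ^ m).trace| := by rw [abs_mul, hd, one_mul]
      have h3 := abs_sub_abs_le_abs_sub (M.trace * (M ^ (m + 1)).trace) (M.det * (M ^ m).trace)
      omega
  have hmono : ∀ m, 3 ≤ |(M ^ (m + 1)).trace| := fun m => by
    have := key m; omega
  have := hmono (n - 1)
  rw [Nat.sub_add_cancel (Nat.pos_of_ne_zero hn), h] at this
  simp at this

theorem det_sub_one (M : Matrix (Fin 2) (Fin 2) ℤ) :
    (M - 1).det = M.det - M.trace + 1 := by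
  simp [Matrix.det_fin_two, Matrix.trace_fin_two]; ring

theorem eq_one_of_pow_eq_one {M : Matrix (Fin 2) (Fin 2) ℤ} {n : ℕ} (hn : n ≠ 0)
    (h : M ^ n = 1) (hd : M.det = 1) (hfix : (M - 1).det = 0) : M = 1 := by
  rw [det_sub_one, hd] at hfix
  have ht : M.trace = 2 := by omega
  have hN : (M - 1) * (M - 1) = 0 := by
    simp only [sub_mul, mul_sub, one_mul, mul_one, sq_eq_two, ht, hd]
    module
  have key : ∀ m : ℕ, M ^ m = 1 + (m : ℤ) • (M - 1) := by
    intro m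
    induction m with
    | zero => simp
    | succ m ih =>
      have : M ^ (m + 1) = (1 + (m : ℤ) • (M - 1)) * ((M - 1) + 1) := by
        rw [pow_succ, ih, sub_add_cancel]
      rw [this]
      simp only [add_mul, mul_add, smul_mul_assoc, hN, mul_one, one_mul, smul_zero]
      push_cast
      module
  have := key n
  rw [h] at this
  have h0 : (n : ℤ) • (M - 1) = 0 := by simpa using this
  exact sub_eq_zero.mp ((smul_eq_zero.mp h0).resolve_left (by exact_mod_cast hn))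

theorem coe_pow_orderOf {G : Subgroup (GL (Fin 2) ℤ)} [Finite G]
    {γ : GL (Fin 2) ℤ} (hγ : γ ∈ G) :
    orderOf γ ≠ 0 ∧ (γ : Matrix (Fin 2) (Fin 2) ℤ) ^ orderOf γ = 1 := by
  refine ⟨?_, by rw [← Units.val_pow_eq_pow_val, pow_orderOf_eq_one, Units.val_one]⟩
  have := (isOfFinOrder_of_finite (⟨γ, hγ⟩ : G)).orderOf_pos
  rw [← Subgroup.orderOf_coe] at this
  exact this.ne'

theorem det_sub_one_eq_zero_iff (M : Matrix (Fin 2) (Fin 2) ℤ) :
    (∃ v : Fin 2 → ℤ, v ≠ 0 ∧ M *ᵥ v = v) ↔ (M - 1).det = 0 := by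
  rw [← Matrix.exists_mulVec_eq_zero_iff]
  simp only [Matrix.sub_mulVec, Matrix.one_mulVec, sub_eq_zero]

theorem exists_common_fixed (Γ : Subgroup (GL (Fin 2) ℤ)) [Finite Γ]
    (h : ∀ γ ∈ Γ, ∃ v : Fin 2 → ℤ, v ≠ 0 ∧ (γ : Matrix (Fin 2) (Fin 2) ℤ) *ᵥ v = v) :
    ∃ v : Fin 2 → ℤ, v ≠ 0 ∧ ∀ γ ∈ Γ, (γ : Matrix (Fin 2) (Fin 2) ℤ) *ᵥ v = v := by
  have h1 : ∀ γ ∈ Γ, (γ : Matrix (Fin 2) (Fin 2) ℤ).det = 1 → γ = 1 := fun γ hγ hd =>
    Units.ext (eq_one_of_pow_eq_one (coe_pow_orderOf hγ).1 (coe_pow_orderOf hγ).2 hd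
      ((det_sub_one_eq_zero_iff _).mp (h γ hγ)))
  have hm : ∀ γ ∈ Γ, γ ≠ 1 → (γ : Matrix (Fin 2) (Fin 2) ℤ).det = -1 := fun γ hγ hne =>
    ((abs_eq zero_le_one).mp (abs_det_of_pow_eq_one (coe_pow_orderOf hγ).1
      (coe_pow_orderOf hγ).2)).resolve_left fun hd => hne (h1 γ hγ hd)
  by_cases hall : ∀ γ ∈ Γ, γ = 1
  · exact ⟨![1, 0], fun e => by simpa using congrFun e 0, fun γ hγ => by rw [hall γ hγ]; simp⟩
  push Not at hall
  obtain ⟨γ, hγ, hne⟩ := hall
  obtain ⟨v, hv, hfix⟩ := h γ hγ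
  refine ⟨v, hv, fun δ hδ => ?_⟩
  by_cases hδ1 : δ = 1
  · subst hδ1; simp
  · have hp : δ * γ = 1 := h1 _ (Γ.mul_mem hδ hγ) (by
      rw [Units.val_mul, Matrix.det_mul, hm δ hδ hδ1, hm γ hγ hne]; norm_num)
    conv_lhs => rw [← hfix]
    rw [Matrix.mulVec_mulVec, ← Units.val_mul, hp, Units.val_one, Matrix.one_mulVec]

theorem exists_common_fixed_of_mod (Γ : Subgroup (GL (Fin 2) ℤ)) [Finite Γ] (d : ℕ) (hd : 6 < d)
    (w : Fin 2 → ZMod d) (hw : ∀ m : ℕ, 0 < m → m < d → m • w ≠ 0)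
    (hfix : ∀ γ ∈ Γ,
      ((γ : Matrix (Fin 2) (Fin 2) ℤ).map (Int.castRingHom (ZMod d))) *ᵥ w = w) :
    ∃ v : Fin 2 → ℤ, v ≠ 0 ∧ ∀ γ ∈ Γ, (γ : Matrix (Fin 2) (Fin 2) ℤ) *ᵥ v = v := by
  refine exists_common_fixed Γ fun γ hγ => (det_sub_one_eq_zero_iff _).mpr ?_
  obtain ⟨hn, hp⟩ := coe_pow_orderOf hγ
  set D := ((γ : Matrix (Fin 2) (Fin 2) ℤ) - 1).det with hD
  by_contra hne
  set N := ((γ : Matrix (Fin 2) (Fin 2) ℤ) - 1).map (Int.castRingHom (ZMod d)) with hN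
  have hNw : N *ᵥ w = 0 := by
    rw [hN, Matrix.map_sub _ (fun a b => map_sub _ a b), Matrix.map_one _ (map_zero _) (map_one _),
      Matrix.sub_mulVec, hfix γ hγ, Matrix.one_mulVec, sub_self]
  have hdet : (D : ZMod d) • w = 0 := by
    have h := congrArg (fun X => X *ᵥ w) (Matrix.adjugate_mul N)
    simp only [← Matrix.mulVec_mulVec, hNw, Matrix.mulVec_zero, Matrix.smul_mulVec,
      Matrix.one_mulVec] at h
    rw [h]
    congr 1
    rw [hN, hD]
    exact ((Int.castRingHom (ZMod d)).map_det _)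
  have hb : |D| ≤ 4 := by
    rw [hD, det_sub_one]
    have h1 := abs_det_of_pow_eq_one hn hp
    have h2 := abs_trace_le_two hn hp
    rw [abs_le] at h2 ⊢
    rcases (abs_eq zero_le_one).mp h1 with e | e <;> rw [e] <;> omega
  refine hw D.natAbs (Int.natAbs_pos.mpr hne) ?_ ?_
  · have hh : (D.natAbs : ℤ) = |D| := Int.natCast_natAbs D
    omega
  · rw [← Nat.cast_smul_eq_nsmul (ZMod d)]
    rcases Int.natAbs_eq D with e | e
    · rw [e, Int.cast_natCast] at hdet; exact hdet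
    · rw [e, Int.cast_neg, Int.cast_natCast, neg_smul, neg_eq_zero] at hdet; exact hdet

end Groth.BddFin
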