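/- Finite subgroup schemes of the line groups: affine test objects and the algebra (helper92). -/
import Groth.Agent.AlgGrp2.LineLaws

set_option autoImplicit false

universe u

open CategoryTheory MonoidalCategory CartesianMonoidalCategory AlgebraicGeometry
open Polynomial TensorProduct
open Groth.AlgGrp2.LineLaws

noncomputable section

namespace Groth.BddFin.LineQuot

variable {K : Type u} [Field K]

local notation "S₀" => Spec (CommRingCat.of K)

/-- global functions of a `K`-scheme as a `K`-algebra -/
@[reducible] def algΓ (X : Over S₀) : Algebra K Γ(X.left, ⊤) :=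
  RingHom.toAlgebra ((Scheme.ΓSpecIso (CommRingCat.of K)).inv ≫ X.hom.appTop).hom

/-- the canonical map to the affine hull -/
def toTst (X : Over S₀) : letI := algΓ X; X ⟶ tst K Γ(X.left, ⊤) :=
  letI := algΓ X
  Over.homMk X.left.toSpecΓ (by
    show X.left.toSpecΓ ≫ Spec.map ((Scheme.ΓSpecIso (CommRingCat.of K)).inv ≫ X.hom.appTop) = X.hom
    rw [Spec.map_comp, ← Category.assoc, ← Scheme.toSpecΓ_naturality, Category.assoc,
      toSpecΓ_SpecMap_ΓSpecIso_inv, Category.comp_id])

lemma appTop_toTst (X : Over S₀) (r : Γ(X.left, ⊤)) :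
    letI := algΓ X
    (toTst X).left.appTop ((Scheme.ΓSpecIso (CommRingCat.of Γ(X.left, ⊤))).inv r) = r := by
  letI := algΓ X
  show X.left.toSpecΓ.appTop ((Scheme.ΓSpecIso (CommRingCat.of Γ(X.left, ⊤))).inv r) = r
  rw [Scheme.toSpecΓ_appTop]
  exact ConcreteCategory.congr_hom (Scheme.ΓSpecIso (CommRingCat.of Γ(X.left, ⊤))).inv_hom_id r

/-- an affine `K`-scheme is a test object -/
theorem exists_tst (X : Over S₀) [IsAffine X.left] :
    ∃ (B : Type u) (_ : CommRing B) (_ : Algebra K B), Nonempty (tst K B ≅ X) := by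
  letI := algΓ X
  haveI : IsIso (toTst X).left := inferInstanceAs (IsIso X.left.toSpecΓ)
  haveI : IsIso ((Over.forget _).map (toTst X)) := this
  haveI : IsIso (toTst X) := isIso_of_reflects_iso _ (Over.forget _)
  exact ⟨_, _, algΓ X, ⟨(asIso (toTst X)).symm⟩⟩

variable {R R' : Type u} [CommRing R] [Algebra K R] [CommRing R'] [Algebra K R']

lemma exists_tstMap (f : tst K R' ⟶ tst K R) : ∃ ψ : R →ₐ[K] R', tstMap ψ = f := by
  obtain ⟨φ, hφ⟩ : ∃ φ, Spec.map φ = f.left := ⟨_, Spec.map_preimage _⟩
  have hw : Spec.map φ ≫ Spec.map (CommRingCat.ofHom (algebraMap K R)) =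
      Spec.map (CommRingCat.ofHom (algebraMap K R')) := by
    rw [hφ]; exact Over.w f
  rw [← Spec.map_comp, Spec.map_inj] at hw
  exact ⟨{ φ.hom with commutes' := fun c => congr($hw c) }, Over.OverMorphism.ext hφ⟩

lemma tstMap_comp {R'' : Type u} [CommRing R''] [Algebra K R''] (φ : R →ₐ[K] R') (ψ : R' →ₐ[K] R'') :
    tstMap ψ ≫ tstMap φ = tstMap (ψ.comp φ) := by
  ext1
  show Spec.map _ ≫ Spec.map _ = Spec.map _
  rw [← Spec.map_comp]
  rfl

lemma tstMap_id : tstMap (AlgHom.id K R) = 𝟙 (tst K R) := by
  ext1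
  exact Spec.map_id _

/-- a finite monomorphism of test objects is a surjection of algebras -/
lemma surjective_of_mono (φ : R →ₐ[K] R') [Mono (tstMap φ)] [Module.Finite K R'] :
    Function.Surjective φ := by
  haveI : Mono (tstMap φ).left := inferInstance
  haveI hm : Mono (Spec.map (CommRingCat.ofHom φ.toRingHom)) := this
  haveI : Epi (CommRingCat.ofHom φ.toRingHom) := by
    constructor
    intro Z a b hab
    apply Spec.map_injective
    rw [← cancel_mono (Spec.map (CommRingCat.ofHom φ.toRingHom)), ← Spec.map_comp, ← Spec.map_comp, hab]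
  refine RingHom.surjective_of_epi_of_finite (CommRingCat.ofHom φ.toRingHom) ?_
  letI := φ.toRingHom.toAlgebra
  haveI : IsScalarTower K R R' := IsScalarTower.of_algebraMap_eq fun c => (φ.commutes c).symm
  exact Module.Finite.of_restrictScalars_finite K R R'

section Powers

variable {B : Type u} [CommRing B] [Algebra K B] [Module.Finite K B] (h : B)

/-- functionals dual to the powers below the degree -/
lemma exists_dual (i : Fin (minpoly K h).natDegree) :
    ∃ δ : B →ₗ[K] K, ∀ j : Fin (minpoly K h).natDegree, δ (h ^ (j : ℕ)) = if j = i then 1 else 0 := by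
  classical
  have li := linearIndependent_pow (K := K) h
  obtain ⟨δ, hδ⟩ := LinearMap.exists_extend ((Finsupp.lapply i).comp li.repr)
  refine ⟨δ, fun j => ?_⟩
  have hj : h ^ (j : ℕ) ∈ Submodule.span K (Set.range fun j : Fin (minpoly K h).natDegree => h ^ (j : ℕ)) :=
    Submodule.subset_span ⟨j, rfl⟩
  have := LinearMap.congr_fun hδ ⟨_, hj⟩
  simp only [LinearMap.comp_apply, Submodule.subtype_apply, Finsupp.lapply_apply] at this
  rw [this, li.repr_eq_single j ⟨_, hj⟩ rfl, Finsupp.single_apply]

/-- dual functional on the tensor square -/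
lemma exists_dual₂ (i i' : Fin (minpoly K h).natDegree) :
    ∃ δ : B ⊗[K] B →ₗ[K] K, ∀ j j' : ℕ, j < (minpoly K h).natDegree → j' < (minpoly K h).natDegree →
      δ ((h ^ j) ⊗ₜ (h ^ j')) = if j = i ∧ j' = i' then 1 else 0 := by
  obtain ⟨δ, hδ⟩ := exists_dual h i
  obtain ⟨δ', hδ'⟩ := exists_dual h i'
  refine ⟨(TensorProduct.lid K K).toLinearMap.comp (TensorProduct.map δ δ'), fun j j' hj hj' => ?_⟩
  have e1 := hδ ⟨j, hj⟩
  have e2 := hδ' ⟨j', hj'⟩
  simp only [Fin.ext_iff] at e1 e2
  simp only [LinearMap.comp_apply, TensorProduct.map_tmul, LinearEquiv.coe_coe, TensorProduct.lid_tmul,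
    smul_eq_mul, e1, e2, ite_zero_mul_ite_zero, _root_.mul_one]

/-- the defect of additivity of a polynomial -/
lemma aeval_add_sub (p : K[X]) {A : Type u} [CommRing A] [Algebra K A] (x y : A) :
    aeval (x + y) p - aeval x p - aeval y p = (∑ i ∈ Finset.range (p.natDegree + 1),
      ∑ k ∈ Finset.Ioo 0 i, (p.coeff i * (i.choose k : K)) • (x ^ k * y ^ (i - k))) - p.coeff 0 • 1 := by
  rw [aeval_eq_sum_range, aeval_eq_sum_range, aeval_eq_sum_range, ← Finset.sum_sub_distrib,
    ← Finset.sum_sub_distrib,
    Finset.sum_range_succ', Finset.sum_range_succ']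
  simp only [Finset.Ioo_self, Finset.sum_empty, _root_.add_zero, pow_zero]
  rw [sub_self, zero_sub, sub_eq_add_neg]
  congr 1
  refine Finset.sum_congr rfl fun i _ => ?_
  have hsplit : (x + y) ^ (i + 1) = x ^ (i + 1) + y ^ (i + 1) +
      ∑ k ∈ Finset.Ioo 0 (i + 1), x ^ k * y ^ (i + 1 - k) * ((i + 1).choose k : A) := by
    have hI : Finset.range (i + 2) = insert (i + 1) (insert 0 (Finset.Ioo 0 (i + 1))) := by
      ext k
      simp only [Finset.mem_range, Finset.mem_insert, Finset.mem_Ioo]
      omega
    rw [add_pow, hI, Finset.sum_insert (by simp), Finset.sum_insert (by simp)]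
    simp
    ring
  rw [hsplit, smul_add, smul_add, Finset.smul_sum]
  rw [show ∀ a b c : A, a + b + c - a - b = c from fun a b c => by ring]
  refine Finset.sum_congr rfl fun k _ => ?_
  rw [Algebra.smul_def, Algebra.smul_def, map_mul, map_natCast]
  ring

/-- the minimal polynomial of an additive coordinate is additive -/
theorem minpoly_additive (hd : 0 < (minpoly K h).natDegree)
    (hadd : aeval (h ⊗ₜ[K] (1 : B) + (1 : B) ⊗ₜ[K] h) (minpoly K h) = 0)
    {A : Type u} [CommRing A] [Algebra K A] (x y : A) :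
    aeval (x + y) (minpoly K h) = aeval x (minpoly K h) + aeval y (minpoly K h) := by
  set p := minpoly K h with hp
  have hl : aeval (h ⊗ₜ[K] (1 : B)) p = 0 := by
    have := aeval_algHom_apply (Algebra.TensorProduct.includeLeft : B →ₐ[K] B ⊗[K] B) h p
    rwa [minpoly.aeval, map_zero] at this
  have hr : aeval ((1 : B) ⊗ₜ[K] h) p = 0 := by
    have := aeval_algHom_apply (Algebra.TensorProduct.includeRight : B →ₐ[K] B ⊗[K] B) h p
    rwa [minpoly.aeval, map_zero] at this
  have key := aeval_add_sub p (h ⊗ₜ[K] (1 : B)) ((1 : B) ⊗ₜ[K] h)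
  rw [hadd, hl, hr, sub_self, sub_zero] at key
  simp only [Algebra.TensorProduct.tmul_pow, one_pow, Algebra.TensorProduct.tmul_mul_tmul,
    _root_.mul_one, _root_.one_mul] at key
  have h0 : p.coeff 0 = 0 := by
    obtain ⟨δ, hδ⟩ := exists_dual₂ h ⟨0, hd⟩ ⟨0, hd⟩
    replace hδ : ∀ (j j' : ℕ), j < p.natDegree → j' < p.natDegree → _ := hδ
    have := congrArg δ key
    rw [map_zero, map_sub, map_sum, Algebra.TensorProduct.one_def, map_smul] at this
    have h1 := hδ 0 0 hd hd
    rw [pow_zero] at h1
    rw [h1, Finset.sum_eq_zero fun i hi => ?_, if_pos ⟨rfl, rfl⟩, smul_eq_mul, _root_.mul_one] at this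
    · linear_combination this
    rw [map_sum]
    refine Finset.sum_eq_zero fun k hk => ?_
    rw [Finset.mem_Ioo] at hk
    rw [Finset.mem_range] at hi
    rw [map_smul, hδ k (i - k) (by omega) (by omega), if_neg (by simp; omega), smul_zero]
  have hc : ∀ i ∈ Finset.range (p.natDegree + 1), ∀ k ∈ Finset.Ioo 0 i,
      p.coeff i * (i.choose k : K) = 0 := by
    intro i hi k hk
    rw [Finset.mem_Ioo] at hk
    rw [Finset.mem_range] at hi
    obtain ⟨δ, hδ⟩ := exists_dual₂ h ⟨k, show k < p.natDegree by omega⟩ ⟨i - k, show i - k < p.natDegree by omega⟩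
    replace hδ : ∀ (j j' : ℕ), j < p.natDegree → j' < p.natDegree → _ := hδ
    have := congrArg δ key
    rw [map_zero, h0, zero_smul, sub_zero, map_sum] at this
    rw [Finset.sum_eq_single i, map_sum, Finset.sum_eq_single k] at this
    · rw [map_smul, hδ k (i - k) (show k < p.natDegree by omega) (show i - k < p.natDegree by omega), if_pos ⟨rfl, rfl⟩, smul_eq_mul,
        _root_.mul_one] at this
      exact this.symm
    · intro k' hk' hne
      rw [Finset.mem_Ioo] at hk'
      rw [map_smul, hδ k' (i - k') (by omega) (by omega), if_neg (by simp; omega), smul_zero]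
    · intro hk'
      exact absurd (Finset.mem_Ioo.2 hk) hk'
    · intro i' hi' hne
      rw [Finset.mem_range] at hi'
      rw [map_sum]
      refine Finset.sum_eq_zero fun k' hk' => ?_
      rw [Finset.mem_Ioo] at hk'
      rw [map_smul, hδ k' (i' - k') (by omega) (by omega), if_neg (by simp; omega), smul_zero]
    · intro hi'
      exact absurd (Finset.mem_range.2 hi) hi'
  have hz := aeval_add_sub p x y
  rw [h0, zero_smul, sub_zero, Finset.sum_eq_zero fun i hi => Finset.sum_eq_zero fun k hk => by
    rw [hc i hi k hk, zero_smul]] at hz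
  linear_combination hz

/-- the minimal polynomial of a multiplicative coordinate is `X ^ d - 1` -/
theorem minpoly_multiplicative (hd : 0 < (minpoly K h).natDegree) (hu : IsUnit h)
    (hmul : aeval (h ⊗ₜ[K] h) (minpoly K h) = 0) :
    minpoly K h = X ^ (minpoly K h).natDegree - 1 := by
  set p := minpoly K h with hp
  set d := p.natDegree with hdd
  have hmonic : p.Monic := minpoly.monic (Algebra.IsIntegral.isIntegral h)
  have hhd : h ^ d = -∑ i ∈ Finset.range d, p.coeff i • h ^ i := by
    have := minpoly.aeval K h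
    rw [← hp, aeval_eq_sum_range, Finset.sum_range_succ, ← hdd,
      show p.coeff d = 1 from hmonic.coeff_natDegree, one_smul] at this
    linear_combination this
  rw [aeval_eq_sum_range, Finset.sum_range_succ, ← hdd, show p.coeff d = 1 from hmonic.coeff_natDegree,
    one_smul] at hmul
  simp only [Algebra.TensorProduct.tmul_pow, hhd, TensorProduct.neg_tmul, TensorProduct.tmul_neg,
    Finset.sum_neg_distrib, neg_neg, TensorProduct.sum_tmul, TensorProduct.tmul_sum] at hmul
  simp only [TensorProduct.smul_tmul', TensorProduct.tmul_smul, smul_smul] at hmul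
  have hc : ∀ s < d, ∀ t < d, (if s = t then p.coeff s else 0) + p.coeff t * p.coeff s = 0 := by
    intro s hs t ht
    obtain ⟨δ, hδ⟩ := exists_dual₂ h ⟨s, hs⟩ ⟨t, ht⟩
    have := congrArg δ hmul
    simp only [map_add, map_sum, map_zero, map_smul, ← TensorProduct.smul_tmul'] at this
    replace hδ : ∀ (j j' : ℕ), j < p.natDegree → j' < p.natDegree → _ := hδ
    have e1 : ∑ x ∈ Finset.range d, p.coeff x • δ ((h ^ x) ⊗ₜ[K] (h ^ x)) =
        if s = t then p.coeff s else 0 := by
      rw [Finset.sum_eq_single s]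
      · rw [hδ s s hs hs]; simp
      · intro i hi hne
        rw [hδ i i (Finset.mem_range.1 hi) (Finset.mem_range.1 hi), if_neg (by simp; omega), smul_zero]
      · simp [hs]
    have e2 : ∑ x ∈ Finset.range d, ∑ x_1 ∈ Finset.range d,
        (p.coeff x * p.coeff x_1) • δ ((h ^ x_1) ⊗ₜ[K] (h ^ x)) = p.coeff t * p.coeff s := by
      rw [Finset.sum_eq_single t, Finset.sum_eq_single s]
      · rw [hδ s t hs ht]; simp
      · intro i hi hne
        rw [hδ i t (Finset.mem_range.1 hi) ht, if_neg (by simp; omega), smul_zero]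
      · simp [hs]
      · intro i hi hne
        refine Finset.sum_eq_zero fun j hj => ?_
        rw [hδ j i (Finset.mem_range.1 hj) (Finset.mem_range.1 hi), if_neg (by simp; omega), smul_zero]
      · simp [ht]
    rw [e1, e2] at this
    exact this
  have h00 : p.coeff 0 ≠ 0 := by
    intro h0
    obtain ⟨q, hq⟩ := X_dvd_iff.2 h0
    have hq0 : q ≠ 0 := fun e => hmonic.ne_zero (by rw [hq, e, MulZeroClass.mul_zero])
    have : aeval h q = 0 := by
      have := minpoly.aeval K h
      rw [← hp, hq, map_mul, aeval_X] at this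
      exact hu.mul_right_eq_zero.1 this
    have := minpoly.degree_le_of_ne_zero K h hq0 this
    rw [← hp, hq, degree_mul, degree_X, Polynomial.degree_eq_natDegree hq0] at this
    norm_cast at this
    omega
  have hneg : p.coeff 0 = -1 := by
    have := hc 0 hd 0 hd
    rw [if_pos rfl] at this
    have : p.coeff 0 * (1 + p.coeff 0) = 0 := by linear_combination this
    linear_combination ((mul_eq_zero.1 this).resolve_left h00)
  ext i
  rw [coeff_sub, coeff_X_pow, coeff_one]
  rcases lt_trichotomy i d with hi | hi | hi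
  · rw [if_neg hi.ne]
    rcases eq_or_ne i 0 with e | e
    · subst e
      rw [if_pos rfl, hneg, zero_sub]
    · have := hc i hi 0 hd
      rw [if_neg e, hneg, zero_add] at this
      rw [if_neg e, sub_zero]
      linear_combination -this
  · subst hi
    rw [if_pos rfl, if_neg hd.ne', sub_zero]
    exact hmonic.coeff_natDegree
  · rw [if_neg hi.ne', if_neg (by omega), sub_zero]
    exact coeff_eq_zero_of_natDegree_lt hi

end Powers

end Groth.BddFin.LineQuot
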