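/- Quotient of the additive group by a finite subgroup scheme (helper92). -/
import Groth.Agent.BddFin.LineQuot
import Groth.Prelude.Def_AlgGrp

set_option autoImplicit false

universe u

open CategoryTheory MonoidalCategory CartesianMonoidalCategory MonObj AlgebraicGeometry
  CategoryTheory.Limits
open Polynomial TensorProduct
open Groth.AlgGrp2.LineLaws

noncomputable section

namespace Groth.BddFin.LineQuot

variable {K : Type u} [Field K]

local notation "S₀" => Spec (CommRingCat.of K)

lemma finite_of_tst_iso {B : Type u} [CommRing B] [Algebra K B] {H : Over S₀} [IsFinite H.hom]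
    (w : tst K B ≅ H) : Module.Finite K B := by
  haveI : IsIso w.hom.left := ((Over.forget _).mapIso w).isIso_hom
  have h : IsFinite (Spec.map (CommRingCat.ofHom (algebraMap K B))) := by
    show IsFinite (tst K B).hom
    rw [← Over.w w.hom]
    infer_instance
  exact RingHom.finite_algebraMap.1 ((IsFinite.SpecMap_iff _).1 h)

lemma mul_point {R : Type u} [CommRing R] [Algebra K R] {B : Type u} [CommRing B] [Algebra K B]
    {H : Over S₀} [GrpObj H] (w : tst K B ≅ H) (u v : B →ₐ[K] R) :
    ∃ ψ : B →ₐ[K] R, tstMap ψ ≫ w.hom = (tstMap u ≫ w.hom) * (tstMap v ≫ w.hom) := by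
  obtain ⟨ψ, hψ⟩ := exists_tstMap (((tstMap u ≫ w.hom) * (tstMap v ≫ w.hom)) ≫ w.inv)
  exact ⟨ψ, by rw [hψ, Category.assoc, Iso.inv_hom_id, Category.comp_id]⟩

lemma ga_mul {R : Type u} [CommRing R] [Algebra K R] (x y : tst K R ⟶ Red.Ga S₀) :
    ga (x * y) = ga x + ga y := by
  unfold ga
  rw [Reductive.gaFn_mul]
  exact map_add _ _ _

lemma ga_one {R : Type u} [CommRing R] [Algebra K R] : ga (1 : tst K R ⟶ Red.Ga S₀) = 0 := by
  unfold ga
  rw [Reductive.gaFn_one]
  exact map_zero _

lemma integral_X (p : K[X]) (hm : p.Monic) (hd : 0 < p.natDegree) :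
    (aeval p : K[X] →ₐ[K] K[X]).toRingHom.IsIntegral := by
  letI := (aeval p : K[X] →ₐ[K] K[X]).toRingHom.toAlgebra
  have hX : IsIntegral K[X] (X : K[X]) := by
    refine ⟨p.map C - C X, ?_, ?_⟩
    · refine (hm.map C).sub_of_left ?_
      refine lt_of_le_of_lt degree_C_le ?_
      rw [degree_map_eq_of_injective C_injective]
      exact natDegree_pos_iff_degree_pos.1 hd
    · show eval₂ (aeval p : K[X] →ₐ[K] K[X]).toRingHom X (p.map C - C X) = 0
      rw [eval₂_sub, eval₂_C, eval₂_map]
      show eval₂ ((aeval p : K[X] →ₐ[K] K[X]).toRingHom.comp C) X p - aeval p X = 0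
      rw [aeval_X, show (aeval p : K[X] →ₐ[K] K[X]).toRingHom.comp C = C from RingHom.ext fun c => aeval_C p c,
        eval₂_C_X, sub_self]
  intro q
  induction q using Polynomial.induction_on with
  | C c =>
    have h := isIntegral_algebraMap (R := K[X]) (A := K[X]) (x := C c)
    rwa [show algebraMap K[X] K[X] (C c) = C c from aeval_C p c] at h
  | add a b ha hb => exact IsIntegral.add ha hb
  | monomial n a h =>
    rw [pow_succ, ← _root_.mul_assoc]
    exact IsIntegral.mul h hX

lemma aeval_injective_of_pos {p : K[X]} (hd : 0 < p.natDegree) :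
    Function.Injective (aeval p : K[X] →ₐ[K] K[X]) := by
  rw [injective_iff_map_eq_zero]
  intro q hq
  change q.comp p = 0 at hq
  rcases comp_eq_zero_iff.1 hq with h | ⟨-, h⟩
  · exact h
  · rw [h, natDegree_C] at hd
    exact absurd hd (lt_irrefl _)

lemma flat_of_injective {R S : Type u} [CommRing R] [IsDedekindDomain R] [CommRing S] [IsDomain S]
    {f : R →+* S} (hf : Function.Injective f) : f.Flat := by
  algebraize [f]
  show Module.Flat R S
  rw [IsDedekindDomain.flat_iff_torsion_eq_bot, ← Submodule.isTorsionFree_iff_torsion_eq_bot]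
  exact Module.isTorsionFree_iff_algebraMap_injective.2 hf

lemma flat_surjective_conj {X Y Z W : Over S₀} (b : X ⟶ Y) (m : Y ⟶ Z) (a : Z ⟶ W) [IsIso b] [IsIso a] :
    (Flat m.left → Flat (b ≫ m ≫ a).left) ∧ (Surjective m.left → Surjective (b ≫ m ≫ a).left) := by
  haveI : IsIso b.left := ((Over.forget _).mapIso (asIso b)).isIso_hom
  haveI : IsIso a.left := ((Over.forget _).mapIso (asIso a)).isIso_hom
  rw [Over.comp_left, Over.comp_left]
  exact ⟨fun h => by haveI := h; infer_instance, fun h => by haveI := h; infer_instance⟩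

/-- the quotient of `𝔾ₐ` by a finite subgroup scheme is `𝔾ₐ` -/
theorem quot_ga {H : Over S₀} [GrpObj H] (i : H ⟶ Red.Ga S₀) [IsMonHom i] [Mono i] [IsFinite H.hom] :
    ∃ φ : Red.Ga S₀ ⟶ Red.Ga S₀, IsMonHom φ ∧ AlgGrp.IsKernel i φ ∧ Flat φ.left ∧ Surjective φ.left := by
  haveI : IsAffine H.left := isAffine_of_isAffineHom H.hom
  obtain ⟨B, _, _, ⟨w⟩⟩ := exists_tst H
  haveI := finite_of_tst_iso w
  let j := w.hom ≫ i
  let h : B := ga j
  let B' := Algebra.adjoin K ({h} : Set B)
  let h' : B' := ⟨h, Algebra.self_mem_adjoin_singleton K h⟩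
  have hj : tstMap B'.val ≫ gaPt h' = j := ga_injective (by rw [gaPt_comp, ga_gaPt]; rfl)
  haveI : Mono (tstMap B'.val ≫ gaPt h') := by rw [hj]; infer_instance
  haveI : Mono (tstMap B'.val) := mono_of_mono _ (gaPt h')
  have hval := surjective_of_mono B'.val
  have hsur : Function.Surjective (aeval h : K[X] →ₐ[K] B) := fun b => by
    obtain ⟨⟨b, hb⟩, rfl⟩ := hval b
    have hb' : b ∈ (aeval h : K[X] →ₐ[K] B).range := (Algebra.adjoin_singleton_eq_range_aeval K h) ▸ hb
    exact hb'
  obtain ⟨ε, -⟩ := exists_tstMap ((1 : tst K K ⟶ H) ≫ w.inv)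
  haveI : Nontrivial B := ε.toRingHom.domain_nontrivial
  set p := minpoly K h with hp
  have hd : 0 < p.natDegree := minpoly.natDegree_pos (Algebra.IsIntegral.isIntegral h)
  have hm : p.Monic := minpoly.monic (Algebra.IsIntegral.isIntegral h)
  have hadd : aeval (h ⊗ₜ[K] (1 : B) + (1 : B) ⊗ₜ[K] h) p = 0 := by
    let u : B →ₐ[K] B ⊗[K] B := Algebra.TensorProduct.includeLeft
    let v : B →ₐ[K] B ⊗[K] B := Algebra.TensorProduct.includeRight
    obtain ⟨ψ, hψ⟩ := mul_point w u v
    have h1 : ψ h = u h + v h := by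
      show ψ (ga j) = u (ga j) + v (ga j)
      rw [← ga_comp, ← ga_comp, ← ga_comp, ← ga_mul, ← Category.assoc, hψ, MonObj.mul_comp _ _ i,
        Category.assoc, Category.assoc]
    have h2 : aeval (ψ h) p = 0 := by rw [aeval_algHom_apply, minpoly.aeval, map_zero]
    rw [h1] at h2
    exact h2
  have hpadd : ∀ {A : Type u} [CommRing A] [Algebra K A] (x y : A),
      aeval (x + y) p = aeval x p + aeval y p := fun {A} _ _ x y => minpoly_additive h hd hadd x y
  have hp0 : ∀ {A : Type u} [CommRing A] [Algebra K A], aeval (0 : A) p = 0 := fun {A} _ _ => by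
    have := hpadd (0 : A) 0
    simpa using this
  -- the affine line
  haveI : IsAffine (Red.Ga S₀).left := 
    haveI : IsAffine (Red.GaZ.{u}).left := isAffine_Spec _
    inferInstanceAs (IsAffine (pullback _ _))
  obtain ⟨A₀, _, _, ⟨w₀⟩⟩ := exists_tst (Red.Ga S₀)
  let a : tst K K[X] ⟶ Red.Ga S₀ := gaPt X
  let b : Red.Ga S₀ ⟶ tst K K[X] := w₀.inv ≫ tstMap (aeval (ga w₀.hom))
  have hba : b ≫ a = 𝟙 _ := by
    rw [← cancel_epi w₀.hom, Category.comp_id]
    simp only [b, a, Category.assoc, Iso.hom_inv_id_assoc]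
    exact ga_injective (by rw [ga_comp, ga_gaPt, aeval_X])
  have hab : a ≫ b = 𝟙 _ := by
    obtain ⟨ψ, hψ⟩ := exists_tstMap (a ≫ b)
    have : tstMap ψ ≫ a = a := by rw [hψ, Category.assoc, hba, Category.comp_id]
    have hX : ψ X = X := by
      have := congrArg ga this
      rwa [ga_comp, ga_gaPt] at this
    rw [← hψ, show ψ = AlgHom.id K K[X] from Polynomial.algHom_ext hX, tstMap_id]
  haveI : IsIso a := ⟨b, hab, hba⟩
  let φ : Red.Ga S₀ ⟶ Red.Ga S₀ := b ≫ gaPt p
  have hφpt : ∀ {R : Type u} [CommRing R] [Algebra K R] (x : tst K R ⟶ Red.Ga S₀),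
      ga (x ≫ φ) = aeval (ga x) p := by
    intro R _ _ x
    have hx : x = tstMap (aeval (ga x)) ≫ a := ga_injective (by rw [ga_comp, ga_gaPt, aeval_X])
    conv_lhs => rw [hx]
    simp only [φ, Category.assoc, reassoc_of% hab]
    rw [ga_comp, ga_gaPt]
  haveI hφhom : IsMonHom φ := by
    constructor
    · refine hom_ext_tst fun R _ _ x => ga_injective ?_
      have e1 : x ≫ η[Red.Ga S₀] = 1 := by
        rw [Hom.one_def, toUnit_unique x (toUnit _)]
      rw [← Category.assoc, hφpt, e1, ga_one, hp0]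
    · refine hom_ext_tst fun R _ _ x => ga_injective ?_
      have e2 : x ≫ μ[Red.Ga S₀] = (x ≫ fst _ _) * (x ≫ snd _ _) := by
        rw [Hom.mul_def, ← comp_lift, lift_fst_snd, Category.comp_id]
      have e3 : x ≫ (φ ⊗ₘ φ) ≫ μ[Red.Ga S₀] = (x ≫ fst _ _ ≫ φ) * (x ≫ snd _ _ ≫ φ) := by
        rw [Hom.mul_def, ← Category.assoc x (fst _ _), ← Category.assoc x (snd _ _), ← lift_map,
          ← comp_lift, lift_fst_snd, Category.comp_id, Category.assoc]
      rw [← Category.assoc, hφpt, e2, e3, ga_mul, ga_mul, hpadd, ← Category.assoc x (fst _ _), ← Category.assoc x (snd _ _),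
        hφpt, hφpt]
  refine ⟨φ, hφhom, ?_, ?_, ?_⟩
  · have hw : i ≫ φ = toUnit H ≫ η[Red.Ga S₀] := by
      rw [← cancel_epi w.hom, ← Hom.one_def, MonObj.comp_one, ← Category.assoc]
      exact ga_injective (by rw [hφpt, ga_one]; exact minpoly.aeval K h)
    refine IsPullback.of_isLimit' ⟨hw⟩ ?_
    have hlift : ∀ (T : Over S₀) (x : T ⟶ Red.Ga S₀), x ≫ φ = 1 → ∃ l : T ⟶ H, l ≫ i = x := by
      intro T x hx
      letI := algΓ T
      let r : Γ(T.left, ⊤) := Red.gaFn x
      have hx' : toTst T ≫ gaPt r = x := Reductive.gaFn_injective (by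
        rw [Reductive.gaFn_comp]
        erw [Reductive.gaFn_gaMk]
        exact appTop_toTst T r)
      have hr : aeval r p = 0 := by
        have h1 := congrArg Red.gaFn hx
        rw [← hx', Category.assoc, Reductive.gaFn_one, Reductive.gaFn_comp] at h1
        have h2 := hφpt (gaPt (k := K) r)
        rw [ga_gaPt] at h2
        rw [← h2]
        unfold ga
        rw [← appTop_toTst T ((Scheme.ΓSpecIso (CommRingCat.of Γ(T.left, ⊤))).hom
          (Red.gaFn (gaPt (k := K) r ≫ φ)))]
        rw [show (Scheme.ΓSpecIso (CommRingCat.of Γ(T.left, ⊤))).inv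
          ((Scheme.ΓSpecIso (CommRingCat.of Γ(T.left, ⊤))).hom (Red.gaFn (gaPt (k := K) r ≫ φ))) =
            Red.gaFn (gaPt (k := K) r ≫ φ) from ConcreteCategory.congr_hom (Scheme.ΓSpecIso (CommRingCat.of Γ(T.left, ⊤))).hom_inv_id (Red.gaFn (gaPt (k := K) r ≫ φ))]
        exact h1
      have hker : ∀ q : K[X], aeval h q = 0 → aeval r q = 0 := by
        intro q hq
        obtain ⟨c, rfl⟩ := minpoly.dvd K h hq
        rw [← hp, map_mul, hr, zero_mul]
      let L : B →ₐ[K] Γ(T.left, ⊤) := (Ideal.Quotient.liftₐ (RingHom.ker (aeval h : K[X] →ₐ[K] B))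
        (aeval r) fun q hq => hker q hq).comp
          (Ideal.quotientKerAlgEquivOfSurjective hsur).symm.toAlgHom
      have hL : L h = r := by
        have e : (Ideal.quotientKerAlgEquivOfSurjective hsur).symm h = Ideal.Quotient.mk _ X := by
          rw [AlgEquiv.symm_apply_eq]
          simp
        show Ideal.Quotient.liftₐ _ (aeval r) (fun q hq => hker q hq) ((Ideal.quotientKerAlgEquivOfSurjective hsur).symm h) = r
        rw [e]
        simp
      refine ⟨toTst T ≫ tstMap L ≫ w.hom, ?_⟩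
      rw [Category.assoc, Category.assoc, ← hx']
      congr 1
      exact ga_injective (by rw [ga_comp, ga_gaPt]; exact hL)
    choose l hl using fun (s : PullbackCone φ η[Red.Ga S₀]) => hlift _ s.fst (by
      rw [s.condition, toUnit_unique s.snd (toUnit _), Hom.one_def])
    exact PullbackCone.IsLimit.mk _ l hl (fun s => toUnit_unique _ _)
      (fun s m hm _ => (cancel_mono i).1 (hm.trans (hl s).symm))
  all_goals
    have e : φ = b ≫ tstMap (aeval p) ≫ a := by
      simp only [φ]
      congr 1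
      exact ga_injective (by rw [ga_comp, ga_gaPt, ga_gaPt, aeval_X])
    haveI : IsIso b := ⟨a, hba, hab⟩
    rw [e]
  · exact (flat_surjective_conj b _ a).1
      (Flat.SpecMap_iff.mpr (flat_of_injective (f := (aeval p : K[X] →ₐ[K] K[X]).toRingHom) (aeval_injective_of_pos hd)))
  · exact (flat_surjective_conj b _ a).2
      ⟨fun x => (integral_X p hm hd).comap_surjective (aeval_injective_of_pos hd) x⟩

end Groth.BddFin.LineQuot
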