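/- Quotient of the multiplicative group by a finite subgroup scheme (helper92). -/
import Groth.Agent.BddFin.LineQuotGa

set_option autoImplicit false

universe u

open CategoryTheory MonoidalCategory CartesianMonoidalCategory MonObj AlgebraicGeometry
  CategoryTheory.Limits
open Polynomial TensorProduct
open Groth.AlgGrp2.LineLaws

noncomputable section

namespace Groth.BddFin.LineQuot

variable {K : Type u} [Field K]

local notation "S₀" => Spec (CommRingCat.of K)

lemma gm_mul {R : Type u} [CommRing R] [Algebra K R] (x y : tst K R ⟶ Red.Gm S₀) :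
    gm (x * y) = gm x * gm y := by
  unfold gm
  rw [Reductive.gmFn_mul]
  exact map_mul _ _ _

lemma gm_one {R : Type u} [CommRing R] [Algebra K R] : gm (1 : tst K R ⟶ Red.Gm S₀) = 1 := by
  unfold gm
  rw [Reductive.gmFn_one]
  exact map_one _

lemma gm_pow {R : Type u} [CommRing R] [Algebra K R] (x : tst K R ⟶ Red.Gm S₀) (n : ℕ) :
    gm (x ^ n) = gm x ^ n := by
  induction n with
  | zero => rw [pow_zero, pow_zero, gm_one]
  | succ n ih => rw [pow_succ, pow_succ, gm_mul, ih]

/-- evaluation of Laurent polynomials at a unit -/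
def evalU {R : Type u} [CommRing R] [Algebra K R] (r : Rˣ) : LaurentPolynomial K →ₐ[K] R :=
  AddMonoidAlgebra.lift K R ℤ ((Units.coeHom R).comp (zpowersHom Rˣ r))

lemma evalU_T {R : Type u} [CommRing R] [Algebra K R] (r : Rˣ) (n : ℤ) :
    evalU (K := K) r (LaurentPolynomial.T n) = ((r ^ n : Rˣ) : R) := by
  show AddMonoidAlgebra.lift K R ℤ ((Units.coeHom R).comp (zpowersHom Rˣ r)) (AddMonoidAlgebra.single n 1) = _
  rw [AddMonoidAlgebra.lift_single, one_smul]
  rfl

lemma lp_algHom_ext {R : Type u} [CommRing R] [Algebra K R] {f g : LaurentPolynomial K →ₐ[K] R}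
    (h : f (LaurentPolynomial.T 1) = g (LaurentPolynomial.T 1)) : f = g := by
  apply AddMonoidAlgebra.algHom_ext'
  · apply MonoidHom.ext_mint
    exact h
  · exact AlgHom.ext fun c => ((f.comp _).commutes c).trans ((g.comp _).commutes c).symm

/-- the unit `T` -/
def unitT (K : Type u) [Field K] : (LaurentPolynomial K)ˣ := (LaurentPolynomial.isUnit_T (R := K) 1).unit

lemma integral_T (d : ℕ) (hd : 0 < d) :
    (evalU (K := K) ((unitT K) ^ d)).toRingHom.IsIntegral := by
  let φ := evalU (K := K) ((unitT K) ^ d)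
  letI := φ.toRingHom.toAlgebra
  have hval : (((unitT K) : (LaurentPolynomial K)ˣ) : LaurentPolynomial K) = LaurentPolynomial.T 1 := rfl
  have hT : ∀ m : ℤ, φ (LaurentPolynomial.T m) = LaurentPolynomial.T (m * d) := by
    intro m
    rw [show φ (LaurentPolynomial.T m) = _ from evalU_T ((unitT K) ^ d) m, ← zpow_natCast, ← zpow_mul,
      mul_comm]
    have key : ∀ k : ℤ, ((((unitT K) : (LaurentPolynomial K)ˣ) ^ k : (LaurentPolynomial K)ˣ) : LaurentPolynomial K) =
        LaurentPolynomial.T k := by
      intro k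
      induction k with
      | zero => simp
      | succ k ih => rw [zpow_add, zpow_one, Units.val_mul, ih, hval, ← LaurentPolynomial.T_add]
      | pred k ih =>
        rw [zpow_sub, zpow_one, Units.val_mul, ih, sub_eq_add_neg, LaurentPolynomial.T_add]
        congr 1
        symm
        refine Units.eq_inv_of_mul_eq_one_left ?_
        rw [hval, ← LaurentPolynomial.T_add]
        simp
    exact key _
  have hsgn : ∀ m : ℤ, IsIntegral (LaurentPolynomial K) (LaurentPolynomial.T m : LaurentPolynomial K) := by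
    intro m
    refine IsIntegral.of_pow hd ?_
    rw [LaurentPolynomial.T_pow, mul_comm, ← hT]
    exact isIntegral_algebraMap
  intro q
  induction q using LaurentPolynomial.induction_on' with
  | add a b ha hb => exact IsIntegral.add ha hb
  | C_mul_T m a =>
    refine IsIntegral.mul ?_ (hsgn m)
    have h := isIntegral_algebraMap (R := LaurentPolynomial K) (A := LaurentPolynomial K)
      (x := LaurentPolynomial.C a)
    rwa [show algebraMap (LaurentPolynomial K) (LaurentPolynomial K) (LaurentPolynomial.C a) =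
      LaurentPolynomial.C a from φ.commutes a] at h

lemma evalU_pow_injective (d : ℕ) (hd : 0 < d) :
    Function.Injective (evalU (K := K) ((unitT K) ^ d)) := by
  have hq : ∀ q : K[X], evalU (K := K) ((unitT K) ^ d) (toLaurent q) = toLaurent (q.comp (X ^ d)) := by
    intro q
    induction q using Polynomial.induction_on with
    | C c =>
      rw [toLaurent_C, C_comp, toLaurent_C]
      exact (evalU (K := K) ((unitT K) ^ d)).commutes c
    | add a b ha hb => simp only [map_add, add_comp, ha, hb]
    | monomial n a h =>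
      rw [pow_succ, ← _root_.mul_assoc]
      generalize C a * X ^ n = P at h ⊢
      rw [Polynomial.mul_comp, X_comp, map_mul, map_mul,
        map_mul, h,
        Polynomial.toLaurent_X, toLaurent_X_pow, evalU_T, zpow_one]
      congr 1
      rw [Units.val_pow_eq_pow_val]
      show (LaurentPolynomial.T 1 : LaurentPolynomial K) ^ d = _
      rw [LaurentPolynomial.T_pow, _root_.mul_one]
  rw [injective_iff_map_eq_zero]
  intro f hf
  obtain ⟨n, q, hn⟩ := LaurentPolynomial.exists_T_pow f
  have h0 := congrArg (evalU (K := K) ((unitT K) ^ d)) hn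
  rw [map_mul, hf, zero_mul, hq] at h0
  have : q.comp (X ^ d) = 0 := Polynomial.toLaurent_injective (by rw [h0, map_zero])
  have hq0 : q = 0 := aeval_injective_of_pos (p := (X : K[X]) ^ d) (by rw [natDegree_X_pow]; exact hd)
    (by rw [map_zero]; exact this)
  rw [hq0, map_zero] at hn
  exact (IsUnit.mul_left_eq_zero (LaurentPolynomial.isUnit_T _)).1 hn.symm

/-- the quotient of `𝔾ₘ` by a finite subgroup scheme is `𝔾ₘ` -/
theorem quot_gm {H : Over S₀} [GrpObj H] (i : H ⟶ Red.Gm S₀) [IsMonHom i] [Mono i] [IsFinite H.hom] :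
    ∃ φ : Red.Gm S₀ ⟶ Red.Gm S₀, IsMonHom φ ∧ AlgGrp.IsKernel i φ ∧ Flat φ.left ∧ Surjective φ.left := by
  haveI : IsAffine H.left := isAffine_of_isAffineHom H.hom
  obtain ⟨B, _, _, ⟨w⟩⟩ := exists_tst H
  haveI := finite_of_tst_iso w
  let j := w.hom ≫ i
  let h : B := gm j
  have hu : IsUnit h := isUnit_gm j
  let B' := Algebra.adjoin K ({h} : Set B)
  let h' : B' := ⟨h, Algebra.self_mem_adjoin_singleton K h⟩
  have hu' : IsUnit h' := by
    obtain ⟨c, hc⟩ := LinearMap.surjective_of_injective (f := LinearMap.mulLeft K h')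
      (fun x y e => Subtype.ext (hu.mul_left_cancel (congrArg Subtype.val e))) 1
    exact IsUnit.of_mul_eq_one c hc
  have hj : tstMap B'.val ≫ gmPt hu'.unit = j := gm_injective (by rw [gm_comp, gm_gmPt]; rfl)
  haveI : Mono (tstMap B'.val ≫ gmPt hu'.unit) := by rw [hj]; infer_instance
  haveI : Mono (tstMap B'.val) := mono_of_mono _ (gmPt hu'.unit)
  have hval := surjective_of_mono B'.val
  have hsur : Function.Surjective (aeval h : K[X] →ₐ[K] B) := fun b => by
    obtain ⟨⟨b, hb⟩, rfl⟩ := hval b
    have hb' : b ∈ (aeval h : K[X] →ₐ[K] B).range := (Algebra.adjoin_singleton_eq_range_aeval K h) ▸ hb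
    exact hb'
  obtain ⟨ε, -⟩ := exists_tstMap ((1 : tst K K ⟶ H) ≫ w.inv)
  haveI : Nontrivial B := ε.toRingHom.domain_nontrivial
  have hd : 0 < (minpoly K h).natDegree := minpoly.natDegree_pos (Algebra.IsIntegral.isIntegral h)
  have hmul : aeval (h ⊗ₜ[K] h) (minpoly K h) = 0 := by
    let u : B →ₐ[K] B ⊗[K] B := Algebra.TensorProduct.includeLeft
    let v : B →ₐ[K] B ⊗[K] B := Algebra.TensorProduct.includeRight
    obtain ⟨ψ, hψ⟩ := mul_point w u v
    have h1 : ψ h = u h * v h := by
      show ψ (gm j) = u (gm j) * v (gm j)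
      rw [← gm_comp, ← gm_comp, ← gm_comp, ← gm_mul, ← Category.assoc, hψ, MonObj.mul_comp _ _ i,
        Category.assoc, Category.assoc]
    have h2 : aeval (ψ h) (minpoly K h) = 0 := by rw [aeval_algHom_apply, minpoly.aeval, map_zero]
    rw [h1] at h2
    simpa [u, v] using h2
  have hp := minpoly_multiplicative h hd hu hmul
  set d := (minpoly K h).natDegree with hdd
  -- the punctured line
  haveI : IsAffine (Red.Gm S₀).left := by
    haveI : IsAffine (Red.diag (ULift.{u} ℤ) ℤ).left := isAffine_Spec _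
    exact inferInstanceAs (IsAffine (pullback _ _))
  obtain ⟨A₀, _, _, ⟨w₀⟩⟩ := exists_tst (Red.Gm S₀)
  let a : tst K (LaurentPolynomial K) ⟶ Red.Gm S₀ := gmPt (unitT K)
  let b : Red.Gm S₀ ⟶ tst K (LaurentPolynomial K) := w₀.inv ≫ tstMap (evalU (isUnit_gm w₀.hom).unit)
  have hval' : (((unitT K) : (LaurentPolynomial K)ˣ) : LaurentPolynomial K) = LaurentPolynomial.T 1 := rfl
  have hpt : ∀ {R : Type u} [CommRing R] [Algebra K R] (r : Rˣ),
      gm (tstMap (evalU (K := K) r) ≫ a) = r := by
    intro R _ _ r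
    rw [gm_comp, gm_gmPt, hval', evalU_T, zpow_one]
  have hba : b ≫ a = 𝟙 _ := by
    rw [← cancel_epi w₀.hom, Category.comp_id]
    simp only [b, Category.assoc, Iso.hom_inv_id_assoc]
    exact gm_injective (hpt _)
  have hab : a ≫ b = 𝟙 _ := by
    obtain ⟨ψ, hψ⟩ := exists_tstMap (a ≫ b)
    have : tstMap ψ ≫ a = a := by rw [hψ, Category.assoc, hba, Category.comp_id]
    have hX : ψ (LaurentPolynomial.T 1) = LaurentPolynomial.T 1 := by
      have := congrArg gm this
      rwa [gm_comp, gm_gmPt] at this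
    rw [← hψ, show ψ = AlgHom.id K _ from lp_algHom_ext hX, tstMap_id]
  haveI : IsIso a := ⟨b, hab, hba⟩
  let φ : Red.Gm S₀ ⟶ Red.Gm S₀ := b ≫ gmPt ((unitT K) ^ d)
  have hφpt : ∀ {R : Type u} [CommRing R] [Algebra K R] (x : tst K R ⟶ Red.Gm S₀),
      gm (x ≫ φ) = gm x ^ d := by
    intro R _ _ x
    have hx : x = tstMap (evalU (isUnit_gm x).unit) ≫ a := gm_injective (by rw [hpt]; rfl)
    conv_lhs => rw [hx]
    simp only [φ, Category.assoc, reassoc_of% hab]
    rw [gm_comp, gm_gmPt, Units.val_pow_eq_pow_val, map_pow, hval', evalU_T, zpow_one]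
    rfl
  haveI hφhom : IsMonHom φ := by
    constructor
    · refine hom_ext_tst fun R _ _ x => gm_injective ?_
      have e1 : x ≫ η[Red.Gm S₀] = 1 := by
        rw [Hom.one_def, toUnit_unique x (toUnit _)]
      rw [← Category.assoc, hφpt, e1, gm_one, one_pow]
    · refine hom_ext_tst fun R _ _ x => gm_injective ?_
      have e2 : x ≫ μ[Red.Gm S₀] = (x ≫ fst _ _) * (x ≫ snd _ _) := by
        rw [Hom.mul_def, ← comp_lift, lift_fst_snd, Category.comp_id]
      have e3 : x ≫ (φ ⊗ₘ φ) ≫ μ[Red.Gm S₀] = (x ≫ fst _ _ ≫ φ) * (x ≫ snd _ _ ≫ φ) := by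
        rw [Hom.mul_def, ← Category.assoc x (fst _ _), ← Category.assoc x (snd _ _), ← lift_map,
          ← comp_lift, lift_fst_snd, Category.comp_id, Category.assoc]
      rw [← Category.assoc, hφpt, e2, e3, gm_mul, gm_mul, mul_pow, ← Category.assoc x (fst _ _),
        ← Category.assoc x (snd _ _), hφpt, hφpt]
  refine ⟨φ, hφhom, ?_, ?_, ?_⟩
  · have hhd : h ^ d = 1 := by
      have := minpoly.aeval K h
      rw [hp, map_sub, map_pow, aeval_X, map_one, sub_eq_zero] at this
      exact this
    have hw : i ≫ φ = toUnit H ≫ η[Red.Gm S₀] := by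
      rw [← cancel_epi w.hom, ← Hom.one_def, MonObj.comp_one, ← Category.assoc]
      exact gm_injective (by rw [hφpt, gm_one]; exact hhd)
    refine IsPullback.of_isLimit' ⟨hw⟩ ?_
    have hlift : ∀ (T : Over S₀) (x : T ⟶ Red.Gm S₀), x ≫ φ = 1 → ∃ l : T ⟶ H, l ≫ i = x := by
      intro T x hx
      letI := algΓ T
      have hru : IsUnit (Red.gmFn x : Γ(T.left, ⊤)) := Reductive.isUnit_gmFn x
      let r : Γ(T.left, ⊤)ˣ := hru.unit
      have hx' : toTst T ≫ gmPt r = x := Reductive.gmFn_injective (by
        rw [Reductive.gmFn_comp]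
        erw [Reductive.gmFn_gmMk]
        exact appTop_toTst T (Red.gmFn x))
      have hr : (r : Γ(T.left, ⊤)) ^ d = 1 := by
        have h1 := congrArg Red.gmFn hx
        rw [← hx', Category.assoc, Reductive.gmFn_one, Reductive.gmFn_comp] at h1
        have h2 := hφpt (gmPt (k := K) r)
        rw [gm_gmPt] at h2
        rw [← h2]
        unfold gm
        rw [← appTop_toTst T ((Scheme.ΓSpecIso (CommRingCat.of Γ(T.left, ⊤))).hom
          (Red.gmFn (gmPt (k := K) r ≫ φ)))]
        rw [show (Scheme.ΓSpecIso (CommRingCat.of Γ(T.left, ⊤))).inv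
          ((Scheme.ΓSpecIso (CommRingCat.of Γ(T.left, ⊤))).hom (Red.gmFn (gmPt (k := K) r ≫ φ))) =
            Red.gmFn (gmPt (k := K) r ≫ φ) from ConcreteCategory.congr_hom (Scheme.ΓSpecIso (CommRingCat.of Γ(T.left, ⊤))).hom_inv_id (Red.gmFn (gmPt (k := K) r ≫ φ))]
        exact h1
      have hker : ∀ q : K[X], aeval h q = 0 → aeval (r : Γ(T.left, ⊤)) q = 0 := by
        intro q hq
        obtain ⟨c, rfl⟩ := minpoly.dvd K h hq
        rw [map_mul, hp, map_sub, map_pow, aeval_X, map_one, hr, sub_self, zero_mul]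
      let L : B →ₐ[K] Γ(T.left, ⊤) := (Ideal.Quotient.liftₐ (RingHom.ker (aeval h : K[X] →ₐ[K] B))
        (aeval (r : Γ(T.left, ⊤))) fun q hq => hker q hq).comp
          (Ideal.quotientKerAlgEquivOfSurjective hsur).symm.toAlgHom
      have hL : L h = (r : Γ(T.left, ⊤)) := by
        have e : (Ideal.quotientKerAlgEquivOfSurjective hsur).symm h = Ideal.Quotient.mk _ X := by
          rw [AlgEquiv.symm_apply_eq]
          simp
        show Ideal.Quotient.liftₐ _ (aeval (r : Γ(T.left, ⊤))) (fun q hq => hker q hq)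
          ((Ideal.quotientKerAlgEquivOfSurjective hsur).symm h) = _
        rw [e]
        simp
      refine ⟨toTst T ≫ tstMap L ≫ w.hom, ?_⟩
      rw [Category.assoc, Category.assoc, ← hx']
      congr 1
      exact gm_injective (by rw [gm_comp, gm_gmPt]; exact hL)
    choose l hl using fun (s : PullbackCone φ η[Red.Gm S₀]) => hlift _ s.fst (by
      rw [s.condition, toUnit_unique s.snd (toUnit _), Hom.one_def])
    exact PullbackCone.IsLimit.mk _ l hl (fun s => toUnit_unique _ _)
      (fun s m hm _ => (cancel_mono i).1 (hm.trans (hl s).symm))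
  all_goals
    have e : φ = b ≫ tstMap (evalU (K := K) ((unitT K) ^ d)) ≫ a := by
      simp only [φ]
      congr 1
      exact gm_injective (by rw [hpt, gm_gmPt])
    haveI : IsIso b := ⟨a, hba, hab⟩
    haveI : IsDedekindDomain (LaurentPolynomial K) :=
      IsLocalization.isDedekindDomain K[X]
        (powers_le_nonZeroDivisors_of_noZeroDivisors Polynomial.X_ne_zero) (LaurentPolynomial K)
    rw [e]
  · exact (flat_surjective_conj b _ a).1
      (Flat.SpecMap_iff.mpr (flat_of_injective (f := (evalU (K := K) ((unitT K) ^ d)).toRingHom) (evalU_pow_injective d hd)))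
  · exact (flat_surjective_conj b _ a).2
      ⟨fun x => (integral_T d hd).comap_surjective (evalU_pow_injective d hd) x⟩

end Groth.BddFin.LineQuot
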