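/-
Minkowski: reduction modulo 3 is injective on finite subgroups of GLₙ(ℤ).
-/
import Mathlib.LinearAlgebra.Matrix.GeneralLinearGroup.Defs
import Mathlib.GroupTheory.OrderOfElement
import Mathlib.Data.ZMod.Basic
import Mathlib.RingTheory.Int.Basic
import Mathlib.Tactic

open Matrix

namespace Groth.BddFin

variable {n : ℕ}

/-- `(1 + c N) ^ m = 1 + m c N + c² X`. -/
theorem one_add_smul_pow (c : ℤ) (N : Matrix (Fin n) (Fin n) ℤ) (m : ℕ) :
    ∃ X : Matrix (Fin n) (Fin n) ℤ, (1 + c • N) ^ m = 1 + ((m : ℤ) * c) • N + (c * c) • X := by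
  induction m with
  | zero => exact ⟨0, by simp⟩
  | succ m ih =>
    obtain ⟨X, hX⟩ := ih
    refine ⟨(m : ℤ) • (N * N) + X + c • (X * N), ?_⟩
    rw [pow_succ, hX]
    simp only [add_mul, mul_add, smul_mul_assoc, mul_smul_comm, smul_add, smul_smul, mul_one,
      one_mul]
    push_cast
    module

theorem eq_one_of_pow_prime {M : Matrix (Fin n) (Fin n) ℤ} {q : ℕ} (hq : q.Prime)
    (h : M ^ q = 1) (hM : ∃ N, M = 1 + (3 : ℤ) • N) : M = 1 := by
  have step : ∀ k : ℕ, ∃ N, M = 1 + ((3 : ℤ) ^ (k + 1)) • N := by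
    intro k
    induction k with
    | zero => simpa using hM
    | succ k ih =>
      obtain ⟨N, hN⟩ := ih
      set c : ℤ := 3 ^ (k + 1) with hc
      have hc0 : c ≠ 0 := pow_ne_zero _ (by norm_num)
      suffices hdiv : ∀ i j, (3 : ℤ) ∣ N i j by
        choose N' hN' using hdiv
        refine ⟨Matrix.of N', ?_⟩
        have e : N = (3 : ℤ) • Matrix.of N' := by ext i j; simp [hN' i j]
        rw [hN, e, smul_smul, hc, ← pow_succ]
      by_cases hq3 : q = 3
      · subst hq3
        have e : c • ((3 : ℤ) • N + (3 * c) • (N * N) + (c * c) • (N * N * N)) = 0 := by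
          have h' : (1 + c • N) ^ 3 = 1 := hN ▸ h
          simp only [pow_succ, pow_zero, one_mul, add_mul, mul_add, mul_one, smul_mul_assoc,
            mul_smul_comm, smul_add, smul_smul] at h'
          have h'' := sub_eq_zero.mpr h'
          rw [← h'']
          module
        have e2 := (smul_eq_zero.mp e).resolve_left hc0
        intro i j
        have e3 := congrFun (congrFun e2 i) j
        simp only [Matrix.add_apply, Matrix.smul_apply, smul_eq_mul, Matrix.zero_apply] at e3
        refine ⟨-(3 ^ k * (N * N) i j) - 3 ^ (2 * k) * (N * N * N) i j, ?_⟩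
        have hk : (3 : ℤ) ^ (2 * k) = 3 ^ k * 3 ^ k := by rw [← pow_add, two_mul]
        rw [hc, pow_succ] at e3
        rw [hk]
        linarith
      · obtain ⟨X, hX⟩ := one_add_smul_pow c N q
        rw [← hN, h] at hX
        have e : c • ((q : ℤ) • N + c • X) = 0 := by
          have h'' := sub_eq_zero.mpr hX.symm
          rw [← h'']
          module
        have e2 := (smul_eq_zero.mp e).resolve_left hc0
        intro i j
        have e3 := congrFun (congrFun e2 i) j
        simp only [Matrix.add_apply, Matrix.smul_apply, smul_eq_mul, Matrix.zero_apply] at e3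
        have h3 : (3 : ℤ) ∣ (q : ℤ) * N i j :=
          ⟨-(3 ^ k * X i j), by rw [hc, pow_succ] at e3; linarith⟩
        rcases (Nat.prime_iff_prime_int.mp (by norm_num : Nat.Prime 3)).dvd_or_dvd h3 with h1 | h1
        · exact absurd ((Nat.prime_dvd_prime_iff_eq (by norm_num) hq).mp (by exact_mod_cast h1))
            (Ne.symm hq3)
        · exact h1
  ext i j
  by_contra hne
  obtain ⟨N, hN⟩ := step ((M i j - (1 : Matrix (Fin n) (Fin n) ℤ) i j).natAbs)
  set D := M i j - (1 : Matrix (Fin n) (Fin n) ℤ) i j with hD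
  have hd : ((3 : ℕ) ^ (D.natAbs + 1) : ℕ) ∣ D.natAbs := by
    have : (3 : ℤ) ^ (D.natAbs + 1) ∣ D := ⟨N i j, by
      conv_lhs => rw [hD, hN]
      simp only [Matrix.add_apply, Matrix.smul_apply, smul_eq_mul, add_sub_cancel_left]⟩
    have := Int.natAbs_dvd_natAbs.mpr this
    simpa [Int.natAbs_pow] using this
  have hD0 : D ≠ 0 := sub_ne_zero.mpr hne
  have h1 := Nat.le_of_dvd (Int.natAbs_pos.mpr hD0) hd
  have h2 := Nat.lt_pow_self (n := D.natAbs + 1) (by norm_num : 1 < 3)
  omega

theorem card_le_mod_three (H : Subgroup (GL (Fin n) ℤ)) [Finite H] :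
    Nat.card H ≤ Nat.card (Matrix (Fin n) (Fin n) (ZMod 3)) := by
  haveI : Finite (Matrix (Fin n) (Fin n) (ZMod 3)) := inferInstanceAs (Finite (Fin n → Fin n → ZMod 3))
  let r : H →* Matrix (Fin n) (Fin n) (ZMod 3) :=
    ((Int.castRingHom (ZMod 3)).mapMatrix.toMonoidHom.comp (Units.coeHom _)).comp H.subtype
  refine Nat.card_le_card_of_injective r fun a b hab => ?_
  have hone : r (a⁻¹ * b) = 1 := by
    rw [map_mul, ← hab, ← map_mul, inv_mul_cancel, map_one]
  by_contra hne
  have hg : a⁻¹ * b ≠ 1 := fun e => hne (inv_mul_eq_one.mp e)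
  set g := a⁻¹ * b with hgdef
  obtain ⟨q, hq, hdvd⟩ := Nat.exists_prime_and_dvd
    (show orderOf g ≠ 1 from fun e => hg (orderOf_eq_one_iff.mp e))
  set e := g ^ (orderOf g / q) with he
  have hpos := (isOfFinOrder_of_finite g).orderOf_pos
  have he1 : orderOf e = q := orderOf_pow_orderOf_div hpos.ne' hdvd
  have hre : r e = 1 := by
    have : r e = r g ^ (orderOf g / q) := map_pow r _ _
    rw [this, hone, one_pow]
  set M : Matrix (Fin n) (Fin n) ℤ := ((e.1 : GL (Fin n) ℤ) : Matrix (Fin n) (Fin n) ℤ) with hM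
  have hMq : M ^ q = 1 := by
    have : e ^ q = 1 := he1 ▸ pow_orderOf_eq_one e
    rw [hM, ← Units.val_pow_eq_pow_val, ← Subgroup.coe_pow, this]
    rfl
  have hdiv : ∀ i j, (3 : ℤ) ∣ (M - 1) i j := by
    intro i j
    rw [show ((3 : ℤ)) = ((3 : ℕ) : ℤ) from rfl, ← ZMod.intCast_zmod_eq_zero_iff_dvd]
    have h0 : (Int.castRingHom (ZMod 3)).mapMatrix (M - 1) = 0 := by
      rw [map_sub, map_one]
      exact sub_eq_zero.mpr hre
    exact congrFun (congrFun h0 i) j
  choose N hN using hdiv
  have hMe : M = 1 := eq_one_of_pow_prime hq hMq ⟨Matrix.of N, by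
    ext i j
    have := hN i j
    simp only [Matrix.sub_apply] at this
    simp only [Matrix.add_apply, Matrix.smul_apply, Matrix.of_apply, smul_eq_mul]
    linarith⟩
  have : e = 1 := Subtype.ext (Units.ext hMe)
  rw [this, orderOf_one] at he1
  exact hq.one_lt.ne he1

end Groth.BddFin
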