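/-
Finite groups of isometries of anisotropic quadratic forms.
-/
import Mathlib.LinearAlgebra.QuadraticForm.Basic
import Mathlib.LinearAlgebra.FiniteDimensional.Basic
import Mathlib.Algebra.CharP.Lemmas
import Mathlib.Algebra.Polynomial.Splits
import Mathlib.Algebra.CharP.Algebra
import Mathlib.FieldTheory.Separable
import Mathlib.LinearAlgebra.Projection
import Mathlib.GroupTheory.OrderOfElement
import Mathlib.Tactic

open Polynomial

namespace Groth.BddFin

universe v

variable {K : Type*} [Field K] {V : Type v} [AddCommGroup V] [Module K V]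

theorem isometry_eq_one_of_pow_char {p : ℕ} [Fact p.Prime] [CharP K p] (h2 : (2 : K) ≠ 0)
    (q : QuadraticForm K V) (hq : q.Anisotropic) (g : Module.End K V)
    (hg : ∀ x : V, q (g x) = q x) (hgp : g ^ p = 1) : g = 1 := by
  rcases subsingleton_or_nontrivial V with hV | hV
  · exact LinearMap.ext fun x => Subsingleton.elim _ _
  haveI : CharP (Module.End K V) p :=
    charP_of_injective_algebraMap (algebraMap K (Module.End K V)).injective p
  set N := g - 1 with hN
  have hNp : N ^ p = 0 := by
    rw [hN, sub_pow_char_of_commute p (Commute.one_right g), hgp, one_pow, sub_self]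
  by_contra hne
  obtain ⟨z, hz⟩ : ∃ z, N z ≠ 0 := by
    by_contra h
    push Not at h
    exact hne (sub_eq_zero.mp (LinearMap.ext h))
  obtain ⟨v, hv, hv2⟩ : ∃ v, N v ≠ 0 ∧ N (N v) = 0 := by
    by_contra hcon
    push Not at hcon
    have : ∀ n : ℕ, N ((N ^ n) z) ≠ 0 := by
      intro n
      induction n with
      | zero => simpa using hz
      | succ n ih => rw [pow_succ', Module.End.mul_apply]; exact hcon _ ih
    have := this p
    rw [hNp, LinearMap.zero_apply, map_zero] at this
    exact this rfl
  set w := N v with hw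
  have e1 : g v = v + w := by simp [hw, hN]
  have e2 : g w = w := by
    rw [hN] at hv2
    exact sub_eq_zero.mp hv2
  have h1 := hg v
  rw [e1, QuadraticMap.map_add q v w] at h1
  have h3 := hg (v + w)
  rw [map_add, e1, e2, add_assoc, QuadraticMap.map_add q v (w + w), QuadraticMap.map_add q v w,
    QuadraticMap.map_add q w w, QuadraticMap.polar_add_right, QuadraticMap.polar_self,
    nsmul_eq_mul] at h3
  have : (2 : K) * q w = 0 := by linear_combination h3 - h1
  exact hv (hq w ((mul_eq_zero.mp this).resolve_left h2))

theorem isometry_sq_eq_one (hK : ∀ n : ℕ, 0 < n → (X ^ n - 1 : K[X]).Splits)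
    (h2 : (2 : K) ≠ 0) (q : QuadraticForm K V) (hq : q.Anisotropic) (g : Module.End K V)
    (hg : ∀ x : V, q (g x) = q x) (d : ℕ) (hd : 0 < d) (hgd : g ^ d = 1) : g ^ 2 = 1 := by
  induction d using Nat.strong_induction_on with
  | _ d ih =>
  by_cases hdK : (d : K) = 0
  · obtain ⟨p, hp⟩ := CharP.exists K
    haveI := hp
    have hdvd : p ∣ d := (CharP.cast_eq_zero_iff K p d).mp hdK
    have hp0 : p ≠ 0 := by rintro rfl; simp at hdvd; omega
    haveI : Fact p.Prime := ⟨(CharP.char_is_prime_or_zero K p).resolve_right hp0⟩
    obtain ⟨e, rfl⟩ := hdvd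
    have he : 0 < e := Nat.pos_of_mul_pos_left hd
    refine ih e (by have := (Fact.out : p.Prime).two_le; nlinarith) he ?_
    apply isometry_eq_one_of_pow_char (p := p) h2 q hq
    · intro x
      clear hgd ih hd he hdK
      induction e generalizing x with
      | zero => simp
      | succ e ihe => rw [pow_succ, Module.End.mul_apply, ihe, hg]
    · rw [← pow_mul, mul_comm, hgd]
  · classical
    set f : K[X] := X ^ d - 1 with hf
    have hsep : f.Separable := by
      rw [hf, ← C_1]; exact separable_X_pow_sub_C 1 hdK one_ne_zero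
    have hmon : f.Monic := by rw [hf, ← C_1]; exact monic_X_pow_sub_C 1 hd.ne'
    have hprod := (hK d hd).eq_prod_roots_of_monic hmon
    have hnd := nodup_roots hsep
    have hker : ∀ ζ : K, ζ ^ 2 ≠ 1 → ∀ v : V, g v = ζ • v → v = 0 := by
      intro ζ hζ v hv
      have h := hg v
      rw [hv, QuadraticMap.map_smul, smul_eq_mul] at h
      exact hq v (by
        by_contra hqv
        exact hζ (by rw [pow_two]; exact mul_right_cancel₀ hqv (h.trans (one_mul _).symm)))
    set good := f.roots.filter (fun ζ => ζ ^ 2 = 1) with hgood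
    set bad := f.roots.filter (fun ζ => ¬ ζ ^ 2 = 1) with hbad
    have hkill : ∀ s : Multiset K, (∀ ζ ∈ s, ζ ^ 2 ≠ 1) →
        ∀ v, aeval g (s.map fun a => X - C a).prod v = 0 → v = 0 := by
      intro s
      induction s using Multiset.induction_on with
      | empty => intro _ v hv; simpa using hv
      | cons a s ihs =>
        intro hs v hv
        rw [Multiset.map_cons, Multiset.prod_cons, map_mul, Module.End.mul_apply, map_sub, aeval_X,
          aeval_C, LinearMap.sub_apply, Module.algebraMap_end_apply, sub_eq_zero] at hv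
        exact ihs (fun x hx => hs x (Multiset.mem_cons_of_mem hx)) v
          (hker a (hs a (Multiset.mem_cons_self a s)) _ hv)
    have hsplit : f = (bad.map fun a => X - C a).prod * (good.map fun a => X - C a).prod := by
      rw [← Multiset.prod_add, ← Multiset.map_add, hbad, hgood, add_comm,
        Multiset.filter_add_not]
      exact hprod
    have hgood0 : aeval g (good.map fun a => X - C a).prod = 0 := by
      refine LinearMap.ext fun v => ?_
      refine hkill bad (fun ζ hζ => (Multiset.mem_filter.mp hζ).2) _ ?_
      rw [← Module.End.mul_apply, ← map_mul, ← hsplit, hf, map_sub, map_pow, aeval_X, map_one, hgd,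
        sub_self]
      rfl
    have hdvd : (good.map fun a => X - C a).prod ∣ (X ^ 2 - 1 : K[X]) := by
      rw [← C_1, Multiset.prod_X_sub_C_dvd_iff_le_roots (X_pow_sub_C_ne_zero two_pos 1),
        Multiset.le_iff_subset (hnd.filter _)]
      intro ζ hζ
      rw [mem_roots (X_pow_sub_C_ne_zero two_pos 1)]
      simp [(Multiset.mem_filter.mp hζ).2]
    obtain ⟨r, hr⟩ := hdvd
    have := congrArg (aeval g) hr
    rw [map_mul, hgood0, zero_mul, map_sub, map_pow, aeval_X, map_one, sub_eq_zero] at this
    exact this

/-- Commuting involutions form a set of size at most `2 ^ dim`. -/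
theorem card_involutions_le (h2 : (2 : K) ≠ 0) :
    ∀ (n : ℕ) (W : Type v) [AddCommGroup W] [Module K W] [FiniteDimensional K W],
      Module.finrank K W ≤ n → ∀ s : Finset (Module.End K W),
      (∀ g ∈ s, g * g = 1) → (∀ g ∈ s, ∀ h ∈ s, g * h = h * g) → s.card ≤ 2 ^ n := by
  intro n
  induction n using Nat.strong_induction_on with
  | _ n ih =>
  intro W _ _ _ hn s hs hc
  classical
  by_cases hall : ∀ g ∈ s, g = 1 ∨ g = -1
  · rcases Nat.eq_zero_or_pos n with rfl | hpos
    · haveI : Subsingleton W := (Module.finrank_zero_iff (R := K) (M := W)).mp (Nat.le_zero.mp hn)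
      haveI : Subsingleton (Module.End K W) := ⟨fun a b => LinearMap.ext fun x => Subsingleton.elim _ _⟩
      simpa using Finset.card_le_one_of_subsingleton s
    · calc s.card ≤ ({1, -1} : Finset (Module.End K W)).card :=
            Finset.card_le_card fun g hg => by simpa using hall g hg
        _ ≤ 2 := Finset.card_le_two
        _ ≤ 2 ^ n := by simpa using Nat.pow_le_pow_right (by norm_num : 1 ≤ 2) hpos
  push Not at hall
  obtain ⟨g, hg, hg1, hg2⟩ := hall
  let P := LinearMap.ker (g - 1)
  let Q := LinearMap.ker (g + 1)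
  have hP : ∀ x, x ∈ P ↔ g x = x := fun x => by simp [P, sub_eq_zero]
  have hQ : ∀ x, x ∈ Q ↔ g x = -x := fun x => by simp [Q, eq_neg_iff_add_eq_zero]
  have hgg : ∀ x, g (g x) = x := fun x => by
    rw [← Module.End.mul_apply, hs g hg]; rfl
  have hcompl : IsCompl P Q := by
    constructor
    · rw [Submodule.disjoint_def]
      intro x hx hx'
      have : x = -x := ((hP x).mp hx).symm.trans ((hQ x).mp hx')
      have h0 : (2 : K) • x = 0 := by rw [two_smul]; exact eq_neg_iff_add_eq_zero.mp this
      exact (smul_eq_zero.mp h0).resolve_left h2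
    · rw [codisjoint_iff, eq_top_iff]
      intro x _
      rw [Submodule.mem_sup]
      refine ⟨(2 : K)⁻¹ • (x + g x), ?_, (2 : K)⁻¹ • (x - g x), ?_, ?_⟩
      · rw [hP, map_smul, map_add, hgg, add_comm]
      · rw [hQ, map_smul, map_sub, hgg, ← smul_neg, neg_sub]
      · rw [← smul_add, show x + g x + (x - g x) = (2 : K) • x by rw [two_smul]; abel,
          inv_smul_smul₀ h2]
  have hdim := Submodule.finrank_add_eq_of_isCompl hcompl
  have hQpos : 0 < Module.finrank K Q := by
    rw [Module.finrank_pos_iff, Submodule.nontrivial_iff_ne_bot]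
    intro h
    apply hg1
    have hPt : P = ⊤ := by
      have := hcompl.sup_eq_top
      rwa [h, sup_bot_eq] at this
    exact LinearMap.ext fun x => (hP x).mp (hPt ▸ Submodule.mem_top)
  have hPpos : 0 < Module.finrank K P := by
    rw [Module.finrank_pos_iff, Submodule.nontrivial_iff_ne_bot]
    intro h
    apply hg2
    have hQt : Q = ⊤ := by
      have := hcompl.sup_eq_top
      rwa [h, bot_sup_eq] at this
    exact LinearMap.ext fun x => (hQ x).mp (hQt ▸ Submodule.mem_top)
  have hinvP : ∀ t ∈ s, ∀ x ∈ P, t x ∈ P := fun t ht x hx => by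
    rw [hP] at hx ⊢
    rw [← Module.End.mul_apply, hc g hg t ht, Module.End.mul_apply, hx]
  have hinvQ : ∀ t ∈ s, ∀ x ∈ Q, t x ∈ Q := fun t ht x hx => by
    rw [hQ] at hx ⊢
    rw [← Module.End.mul_apply, hc g hg t ht, Module.End.mul_apply, hx, map_neg]
  let rP : {t // t ∈ s} → Module.End K P := fun t => t.1.restrict (hinvP t.1 t.2)
  let rQ : {t // t ∈ s} → Module.End K Q := fun t => t.1.restrict (hinvQ t.1 t.2)
  have hinj : Function.Injective fun t => (rP t, rQ t) := by
    intro a b hab
    simp only [Prod.mk.injEq] at hab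
    refine Subtype.ext (LinearMap.ext fun x => ?_)
    obtain ⟨y, hy, z, hz, rfl⟩ := Submodule.mem_sup.mp (hcompl.sup_eq_top ▸ Submodule.mem_top : x ∈ P ⊔ Q)
    have ey := congrArg (fun t : Module.End K P => (t ⟨y, hy⟩ : W)) hab.1
    have ez := congrArg (fun t : Module.End K Q => (t ⟨z, hz⟩ : W)) hab.2
    simp only [rP, rQ, LinearMap.restrict_apply] at ey ez
    rw [map_add, map_add, ey, ez]
  have hcP : (Finset.univ.image rP).card ≤ 2 ^ Module.finrank K P := by
    refine ih _ (by omega) P le_rfl _ ?_ ?_
    · simp only [Finset.mem_image, Finset.mem_univ, true_and, forall_exists_index]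
      rintro _ a rfl
      refine LinearMap.ext fun x => Subtype.ext ?_
      exact LinearMap.congr_fun (hs a.1 a.2) (x : W)
    · simp only [Finset.mem_image, Finset.mem_univ, true_and, forall_exists_index]
      rintro _ a rfl _ b rfl
      refine LinearMap.ext fun x => Subtype.ext ?_
      exact LinearMap.congr_fun (hc a.1 a.2 b.1 b.2) (x : W)
  have hcQ : (Finset.univ.image rQ).card ≤ 2 ^ Module.finrank K Q := by
    refine ih _ (by omega) Q le_rfl _ ?_ ?_
    · simp only [Finset.mem_image, Finset.mem_univ, true_and, forall_exists_index]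
      rintro _ a rfl
      refine LinearMap.ext fun x => Subtype.ext ?_
      exact LinearMap.congr_fun (hs a.1 a.2) (x : W)
    · simp only [Finset.mem_image, Finset.mem_univ, true_and, forall_exists_index]
      rintro _ a rfl _ b rfl
      refine LinearMap.ext fun x => Subtype.ext ?_
      exact LinearMap.congr_fun (hc a.1 a.2 b.1 b.2) (x : W)
  calc s.card = (Finset.univ.image fun t => (rP t, rQ t)).card := by
        rw [Finset.card_image_of_injective _ hinj, Finset.card_univ, Fintype.card_coe]
    _ ≤ (Finset.univ.image rP ×ˢ Finset.univ.image rQ).card :=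
        Finset.card_le_card fun x hx => by
          simp only [Finset.mem_image, Finset.mem_univ, true_and] at hx
          obtain ⟨t, rfl⟩ := hx
          simp
    _ ≤ 2 ^ Module.finrank K P * 2 ^ Module.finrank K Q := by
        rw [Finset.card_product]; exact Nat.mul_le_mul hcP hcQ
    _ ≤ 2 ^ n := by rw [← pow_add]; exact Nat.pow_le_pow_right two_pos (hdim.trans_le hn)

end Groth.BddFin
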