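/-
Elements with a central power, over fields containing all roots of unity.
-/
import Groth.Agent.CSA.RedNorm
import Groth.Agent.CSA.Splitting
import Mathlib.FieldTheory.Galois.Basic
import Mathlib.FieldTheory.IsAlgClosed.Spectrum
import Mathlib.LinearAlgebra.Matrix.Charpoly.Eigs
import Mathlib.FieldTheory.Minpoly.Field
import Mathlib.RingTheory.Polynomial.UniqueFactorization

open Polynomial
open scoped TensorProduct

namespace Groth.BddFin

universe u v

variable {K : Type u} [Field K]

/-- A root of unity in an extension lies in the base. -/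
theorem mem_range_of_pow_eq_one (hK : ∀ n : ℕ, 0 < n → (X ^ n - 1 : K[X]).Splits)
    {L : Type*} [Field L] [Algebra K L] {ζ : L} {n : ℕ} (hn : 0 < n) (h : ζ ^ n = 1) :
    ζ ∈ (algebraMap K L).range := by
  have h0 : ((X ^ n - 1 : K[X]).map (algebraMap K L)) ≠ 0 := by
    simpa using X_pow_sub_C_ne_zero hn (1 : L)
  have h1 : ζ ∈ ((X ^ n - 1 : K[X]).map (algebraMap K L)).roots := by
    rw [mem_roots h0]; simp [h]
  rw [(hK n hn).roots_map (algebraMap K L)] at h1
  obtain ⟨z, -, hz⟩ := Multiset.mem_map.1 h1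
  exact ⟨z, hz⟩

/-- Elements with the same `m`-th power in `K` differ by a scalar. -/
theorem exists_eq_smul_of_pow_eq (hK : ∀ n : ℕ, 0 < n → (X ^ n - 1 : K[X]).Splits)
    {L : Type*} [Field L] [Algebra K L] {α β : L} {m : ℕ} (hm : 0 < m) (hα : α ≠ 0)
    (h : β ^ m = α ^ m) : ∃ z : K, z ≠ 0 ∧ β = algebraMap K L z * α := by
  obtain ⟨z, hz⟩ := mem_range_of_pow_eq_one hK hm (ζ := β / α)
    (by rw [div_pow, h, div_self (pow_ne_zero _ hα)])
  refine ⟨z, ?_, by rw [hz, div_mul_cancel₀ _ hα]⟩
  rintro rfl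
  rw [map_zero] at hz
  have : β = 0 := (div_eq_zero_iff.1 hz.symm).resolve_right hα
  rw [this, zero_pow hm.ne'] at h
  exact pow_ne_zero _ hα h.symm

/-- The monic irreducible factors of `X^m - c` are all of the form `X^r - a` with the same `r`. -/
theorem exists_factor_shape (hK : ∀ n : ℕ, 0 < n → (X ^ n - 1 : K[X]).Splits) {m : ℕ} (hm : 0 < m)
    {c : K} (hc : c ≠ 0) :
    ∃ r : ℕ, 0 < r ∧ ∀ g : K[X], g.Monic → Irreducible g → g ∣ X ^ m - C c →
      ∃ a : K, g = X ^ r - C a := by
  classical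
  let Ω := AlgebraicClosure K
  obtain ⟨α, hα⟩ := IsAlgClosed.exists_pow_nat_eq (algebraMap K Ω c) hm
  have hα0 : α ≠ 0 := fun h => hc ((algebraMap K Ω).injective (by
    rw [← hα, h, zero_pow hm.ne', map_zero]))
  have hex : ∃ r, 0 < r ∧ α ^ r ∈ (algebraMap K Ω).range := ⟨m, hm, ⟨c, hα.symm⟩⟩
  refine ⟨Nat.find hex, (Nat.find_spec hex).1, fun g hg hirr hdvd => ?_⟩
  obtain ⟨hr, a, ha⟩ := Nat.find_spec hex
  have hsp : (g.map (algebraMap K Ω)).Splits := IsAlgClosed.splits _
  have hroot : ∀ β ∈ (g.map (algebraMap K Ω)).roots, ∃ z : K, z ≠ 0 ∧ β = algebraMap K Ω z * α := by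
    intro β hβ
    rw [mem_roots (hg.map _).ne_zero, IsRoot, eval_map_algebraMap] at hβ
    obtain ⟨q, hq⟩ := hdvd
    have : aeval β (X ^ m - C c) = 0 := by rw [hq, map_mul, hβ, zero_mul]
    rw [map_sub, map_pow, aeval_X, aeval_C, sub_eq_zero] at this
    exact exists_eq_smul_of_pow_eq hK hm hα0 (this.trans hα.symm)
  -- the product of the roots shows that `α ^ deg g` is in `K`
  have hprod : ∀ s : Multiset Ω, (∀ β ∈ s, ∃ z : K, z ≠ 0 ∧ β = algebraMap K Ω z * α) →
      ∃ z : K, z ≠ 0 ∧ s.prod = algebraMap K Ω z * α ^ Multiset.card s := by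
    intro s
    induction s using Multiset.induction_on with
    | empty => exact fun _ => ⟨1, one_ne_zero, by simp⟩
    | cons β s ih =>
      intro hs
      obtain ⟨z, hz, hz'⟩ := hs β (Multiset.mem_cons_self _ _)
      obtain ⟨w, hw, hw'⟩ := ih fun x hx => hs x (Multiset.mem_cons_of_mem hx)
      exact ⟨z * w, mul_ne_zero hz hw, by
        rw [Multiset.prod_cons, hz', hw', Multiset.card_cons, map_mul, pow_succ]; ring⟩
  obtain ⟨z, hz, hzp⟩ := hprod _ hroot
  have hcard : Multiset.card (g.map (algebraMap K Ω)).roots = g.natDegree := by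
    rw [← hsp.natDegree_eq_card_roots, natDegree_map]
  have hd : α ^ g.natDegree ∈ (algebraMap K Ω).range := by
    refine ⟨z⁻¹ * ((-1) ^ g.natDegree * g.coeff 0), ?_⟩
    have h1 := hsp.coeff_zero_eq_prod_roots_of_monic (hg.map _)
    rw [natDegree_map, coeff_map] at h1
    rw [map_mul, map_mul, h1, ← mul_assoc ((algebraMap K Ω) ((-1) ^ g.natDegree)), map_pow, map_neg,
      map_one, ← mul_pow, neg_one_mul, neg_neg, one_pow, one_mul, hzp, hcard, ← mul_assoc, ← map_mul,
      inv_mul_cancel₀ hz, map_one, one_mul]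
  have hpos : 0 < g.natDegree := hirr.natDegree_pos
  have hle : Nat.find hex ≤ g.natDegree := Nat.find_min' hex ⟨hpos, hd⟩
  -- and `g` divides `X^r - a'`
  obtain ⟨β, hβ⟩ : ∃ β, β ∈ (g.map (algebraMap K Ω)).roots :=
    Multiset.card_pos_iff_exists_mem.1 (hcard ▸ hpos)
  obtain ⟨w, hw, rfl⟩ := hroot β hβ
  rw [mem_roots (hg.map _).ne_zero, IsRoot, eval_map_algebraMap] at hβ
  refine ⟨w ^ Nat.find hex * a, ?_⟩
  have hdvd' : g ∣ X ^ Nat.find hex - C (w ^ Nat.find hex * a) := by
    rw [minpoly.eq_of_irreducible_of_monic hirr hβ hg]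
    refine minpoly.dvd K _ ?_
    rw [map_sub, map_pow, aeval_X, aeval_C, mul_pow, map_mul, map_pow, ha, sub_self]
  exact (Polynomial.eq_of_monic_of_dvd_of_natDegree_le hg (monic_X_pow_sub_C _ hr.ne') hdvd'
    (by rw [natDegree_X_pow_sub_C]; exact hle)).symm

/-- A monic divisor of a product of irreducibles of the shape `X^r - a` has that shape. -/
theorem exists_prod_eq {P : K[X]} (hP : P.Monic) {r : ℕ}
    (h : ∀ g : K[X], g.Monic → Irreducible g → g ∣ P → ∃ a : K, g = X ^ r - C a) :
    ∃ s : Multiset K, P = (s.map fun a : K => X ^ r - C a).prod := by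
  classical
  have hall : ∀ g ∈ UniqueFactorizationMonoid.normalizedFactors P, ∃ a : K, g = X ^ r - C a := by
    intro g hg
    exact h g (normalize_eq_self_iff_monic (UniqueFactorizationMonoid.irreducible_of_normalized_factor g hg).ne_zero |>.1
      (UniqueFactorizationMonoid.normalize_normalized_factor g hg))
      (UniqueFactorizationMonoid.irreducible_of_normalized_factor g hg)
      (UniqueFactorizationMonoid.dvd_of_mem_normalizedFactors hg)
  choose a ha using hall
  refine ⟨(UniqueFactorizationMonoid.normalizedFactors P).attach.map fun g => a g.1 g.2, ?_⟩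
  rw [Multiset.map_map, show ((fun a : K => X ^ r - C a) ∘ fun g : {x // x ∈
      UniqueFactorizationMonoid.normalizedFactors P} => a g.1 g.2) = fun g => g.1 from
      funext fun g => (ha g.1 g.2).symm, Multiset.attach_map_val]
  exact Polynomial.eq_of_monic_of_associated hP (Multiset.prod_induction Monic _ (fun _ _ => Monic.mul)
      monic_one fun g hg => (normalize_eq_self_iff_monic
        (UniqueFactorizationMonoid.irreducible_of_normalized_factor g hg).ne_zero).1
        (UniqueFactorizationMonoid.normalize_normalized_factor g hg))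
    (UniqueFactorizationMonoid.prod_normalizedFactors hP.ne_zero).symm

theorem natDegree_prod_map (r : ℕ) (hr : 0 < r) (s : Multiset K) :
    ((s.map fun a : K => X ^ r - C a).prod).natDegree = Multiset.card s * r := by
  rw [natDegree_multiset_prod_of_monic _ fun g hg => by
    obtain ⟨a, -, rfl⟩ := Multiset.mem_map.1 hg
    exact monic_X_pow_sub_C a hr.ne']
  simp [Multiset.map_map, Function.comp_def, natDegree_X_pow_sub_C]

/-- The reduced characteristic polynomial has coefficients in the base field. -/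
theorem exists_redCharpoly {A : Type v} [Ring A] [Algebra K A] [Algebra.IsCentral K A]
    [IsSimpleRing A] [FiniteDimensional K A] {n : ℕ} (hn : Module.finrank K A = n ^ 2) :
    ∃ f : A →ₐ[K] Matrix (Fin n) (Fin n) (AlgebraicClosure K), Function.Injective f ∧
      ∀ x : A, ∃ P : K[X], P.Monic ∧ P.natDegree = n ∧
        (f x).charpoly = P.map (algebraMap K (AlgebraicClosure K)) := by
  obtain ⟨E, hfd, hgal, m, hm, ⟨φ⟩⟩ := Groth.CSA.exists_galois_splitting K A
  obtain rfl : m = n := (Nat.pow_left_injective two_ne_zero)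
    ((Groth.CSA.finrank_eq_of_splitting K E φ).symm.trans hn)
  let g := Groth.CSA.splitRep K E φ
  let j : E →ₐ[K] AlgebraicClosure K := IsAlgClosed.lift
  haveI : Nonempty (Fin m) := ⟨⟨0, Nat.pos_of_ne_zero hm⟩⟩
  refine ⟨j.mapMatrix.comp g, RingHom.injective (j.mapMatrix.comp g).toRingHom, fun x => ?_⟩
  have hq := Groth.CSA.charpoly_mulLeft_rep K g (by rw [hn, Fintype.card_fin]) x
  rw [Fintype.card_fin] at hq
  have hfix : ∀ σ : E ≃ₐ[K] E, (g x).charpoly.map σ.toAlgHom.toRingHom = (g x).charpoly := by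
    intro σ
    refine Groth.CSA.monic_pow_left_inj ((Matrix.charpoly_monic _).map _) (Matrix.charpoly_monic _)
      hm ?_
    rw [← Polynomial.map_pow, ← hq, Polynomial.map_map]
    exact congrArg (fun h : K →+* E => Polynomial.map h _)
      (RingHom.ext fun r => σ.commutes r)
  have hlift : (g x).charpoly ∈ Polynomial.lifts (algebraMap K E) := by
    rw [Polynomial.lifts_iff_coeff_lifts]
    intro i
    refine (IsGalois.mem_range_algebraMap_iff_fixed _).2 fun σ => ?_
    have := congrArg (fun q => coeff q i) (hfix σ)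
    simpa using this
  obtain ⟨P, hP, hdeg, hmon⟩ :=
    Polynomial.lifts_and_natDegree_eq_and_monic hlift (Matrix.charpoly_monic _)
  refine ⟨P, hmon, by rw [hdeg, Matrix.charpoly_natDegree_eq_dim, Fintype.card_fin], ?_⟩
  show (j.toRingHom.mapMatrix (g x)).charpoly = _
  rw [RingHom.mapMatrix_apply, Matrix.charpoly_map, ← hP, Polynomial.map_map]
  congr 1
  exact RingHom.ext fun r => j.commutes r

/-- A polynomial killing a matrix over an algebraically closed field vanishes on the roots of its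
characteristic polynomial. -/
theorem dvd_of_aeval_eq_zero {Ω : Type*} [Field Ω] [Algebra K Ω] [IsAlgClosed Ω] {n : ℕ}
    (M : Matrix (Fin n) (Fin n) Ω) {P q g : K[X]} (hP : M.charpoly = P.map (algebraMap K Ω))
    (hq : aeval M q = 0) (hg : g.Monic) (hirr : Irreducible g) (hgP : g ∣ P) : g ∣ q := by
  obtain ⟨β, hβ⟩ : ∃ β, aeval β g = 0 := IsAlgClosed.exists_aeval_eq_zero Ω g
    (degree_pos_of_irreducible hirr).ne'
  rw [minpoly.eq_of_irreducible_of_monic hirr hβ hg]
  refine minpoly.dvd K β ?_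
  have h1 : β ∈ spectrum Ω M := by
    rw [Matrix.mem_spectrum_iff_isRoot_charpoly, hP, IsRoot, eval_map_algebraMap]
    obtain ⟨h, rfl⟩ := hgP
    rw [map_mul, hβ, zero_mul]
  have h2 := spectrum.subset_polynomial_aeval M (q.map (algebraMap K Ω)) ⟨β, h1, rfl⟩
  rw [aeval_map_algebraMap, hq] at h2
  haveI : Nonempty (Fin n) := by
    by_contra h
    rw [not_nonempty_iff] at h
    exact (spectrum.of_subsingleton (R := Ω) M ▸ h1).elim
  rw [spectrum.zero_eq, Set.mem_singleton_iff] at h2
  simpa [eval_map_algebraMap] using h2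

section Division

variable {A : Type v} [DivisionRing A] [Algebra K A] [Algebra.IsCentral K A] [FiniteDimensional K A]

/-- In a central division algebra the minimal polynomial of such an element is `X^r - a`, `r ∣ n`. -/
theorem exists_minpoly_division (hK : ∀ n : ℕ, 0 < n → (X ^ n - 1 : K[X]).Splits) {n : ℕ}
    (hn : Module.finrank K A = n ^ 2) {x : A} (hx : x ≠ 0)
    (hxm : ∃ m : ℕ, 0 < m ∧ x ^ m ∈ (algebraMap K A).range) :
    ∃ (r : ℕ) (a : K), 0 < r ∧ r ∣ n ∧ minpoly K x = X ^ r - C a := by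
  obtain ⟨m, hm, c, hc⟩ := hxm
  have hc0 : c ≠ 0 := fun h => pow_ne_zero m hx (by rw [← hc, h, map_zero])
  obtain ⟨r, hr, hshape⟩ := exists_factor_shape hK hm hc0
  have hint : IsIntegral K x := IsIntegral.of_finite K x
  have hq : aeval x (X ^ m - C c) = 0 := by simp [hc]
  obtain ⟨a, ha⟩ := hshape _ (minpoly.monic hint) (minpoly.irreducible hint) (minpoly.dvd K x hq)
  refine ⟨r, a, hr, ?_, ha⟩
  obtain ⟨f, -, hf⟩ := exists_redCharpoly hn
  obtain ⟨P, hP, hdeg, hch⟩ := hf x
  obtain ⟨s, hs⟩ := exists_prod_eq hP fun g hg hirr hdvd => hshape g hg hirr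
    (dvd_of_aeval_eq_zero (f x) hch (by rw [aeval_algHom_apply, hq, map_zero]) hg hirr hdvd)
  rw [← hdeg, hs, natDegree_prod_map r hr]
  exact dvd_mul_left r _

theorem redNorm_eq_of_minpoly {n : ℕ} (hn : Module.finrank K A = n ^ 2) {N : A →* K}
    (hN : CSAGal.IsRedNorm K A N) {x : A} {r : ℕ} (hr : 0 < r) {a : K}
    (hmin : minpoly K x = X ^ r - C a) :
    ∃ k : ℕ, n = r * k ∧ N x = (-1) ^ n * (-a) ^ k := by
  have hint : IsIntegral K x := IsIntegral.of_finite K x
  obtain ⟨f, -, hf⟩ := exists_redCharpoly hn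
  obtain ⟨P, hP, hdeg, hch⟩ := hf x
  obtain ⟨s, hs⟩ := exists_prod_eq (r := r) hP fun g hg hirr hdvd => by
    refine ⟨a, hmin ▸ Polynomial.eq_of_monic_of_associated hg (minpoly.monic hint)
      (hirr.associated_of_dvd (minpoly.irreducible hint)
      (dvd_of_aeval_eq_zero (f x) hch (by rw [aeval_algHom_apply, minpoly.aeval, map_zero]) hg hirr hdvd))⟩
  have hPa : ∀ b ∈ s, b = a := by
    intro b hb
    have hdvd : (X ^ r - C b) ∣ P := hs ▸ Multiset.dvd_prod (Multiset.mem_map.2 ⟨b, hb, rfl⟩)
    obtain ⟨g, hg, hirr, hgd⟩ := Polynomial.exists_monic_irreducible_factor (X ^ r - C b)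
      (fun h => by
        have := natDegree_eq_zero_of_isUnit h
        rw [natDegree_X_pow_sub_C] at this; omega)
    have h1 := dvd_of_aeval_eq_zero (f x) hch
      (by rw [aeval_algHom_apply, minpoly.aeval, map_zero]) hg hirr (hgd.trans hdvd)
    have h2 := Polynomial.eq_of_monic_of_associated hg (minpoly.monic hint)
      (hirr.associated_of_dvd (minpoly.irreducible hint) h1)
    rw [h2, hmin] at hgd
    have h3 := Polynomial.eq_of_monic_of_dvd_of_natDegree_le (monic_X_pow_sub_C a hr.ne')
      (monic_X_pow_sub_C b hr.ne') hgd (by simp [natDegree_X_pow_sub_C])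
    have h4 := congrArg (fun q => coeff q 0) h3
    simp [hr.ne'] at h4
    exact h4
  have hs' : P = (X ^ r - C a) ^ Multiset.card s := by
    rw [hs]
    conv_lhs => rw [Multiset.eq_replicate_card.2 hPa, Multiset.map_replicate, Multiset.prod_replicate]
  refine ⟨Multiset.card s, ?_, ?_⟩
  · rw [← hdeg, hs, natDegree_prod_map r hr, mul_comm]
  · apply (algebraMap K (AlgebraicClosure K)).injective
    rw [Groth.CSA.redNorm_eq_det hN f (by rw [hn, Fintype.card_fin]) x,
      Matrix.det_eq_sign_charpoly_coeff, Fintype.card_fin, hch, coeff_map, hs', coeff_zero_eq_eval_zero,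
      eval_pow, eval_sub, eval_pow, eval_X, eval_C, zero_pow hr.ne', zero_sub]
    simp

end Division

end Groth.BddFin
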