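import Groth.Prelude.Def_HopfRep
import Groth.Prelude.Def_ComodSub
import Groth.Agent.Hopf.Comod
import Mathlib

/-!
Points of unipotent groups act unipotently; points of finite order invertible in the field are trivial.
-/

set_option autoImplicit false

universe u v

open TensorProduct WithConv

namespace Groth.BddFin

variable {K : Type u} [Field K] {A : Type v} [CommRing A] [Bialgebra K A]

theorem isNilpotent_op_sub_one (hU : HopfRep.IsUnipotent K A) (g : A →ₐ[K] K) :
    ∀ (n : ℕ) (V : Type v) [AddCommGroup V] [Module K V] [HopfRep.Comod K A V] [Module.Finite K V],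
      Module.finrank K V = n →
        IsNilpotent ((ComodLib.op g.toLinearMap : Module.End K V) - 1) := by
  intro n
  induction n using Nat.strong_induction_on with
  | _ n ih =>
    intro V _ _ c _ hn
    rcases subsingleton_or_nontrivial V with hV | hV
    · exact ⟨1, by ext x; exact Subsingleton.elim _ _⟩
    let U := HopfRep.fixedPts K A V
    have hUne : U ≠ ⊥ := hU V inferInstance hV
    have hsub : HopfRep.IsSubcomod (k := K) (A := A) U := fun x hx =>
      ⟨(⟨x, hx⟩ : U) ⊗ₜ[K] (1 : A), hx.symm⟩
    have hfix : ∀ x ∈ U, ComodLib.op g.toLinearMap x = x := fun x hx => by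
      rw [ComodLib.op_apply, show HopfRep.Comod.coact (k := K) (A := A) x = x ⊗ₜ[K] (1 : A) from hx,
        ComodLib.slice_tmul]
      simp
    letI cQ : HopfRep.Comod K A (V ⧸ U) := ComodSub.Comod.quot c U hsub
    have hlt : Module.finrank K (V ⧸ U) < n := by
      have h1 := U.finrank_quotient_add_finrank
      have h2 : Module.finrank K U ≠ 0 := fun h => hUne (Submodule.finrank_eq_zero.1 h)
      omega
    obtain ⟨N, hN⟩ := ih _ hlt (V ⧸ U) rfl
    have hcomm : ∀ x, U.mkQ (ComodLib.op g.toLinearMap x) = ComodLib.op g.toLinearMap (U.mkQ x) :=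
      fun x => (ComodLib.slice_rTensor _ U.mkQ _).symm
    have hpow : ∀ (m : ℕ) (x : V),
        U.mkQ ((((ComodLib.op g.toLinearMap : Module.End K V) - 1) ^ m) x) =
          (((ComodLib.op g.toLinearMap : Module.End K (V ⧸ U)) - 1) ^ m) (U.mkQ x) := by
      intro m
      induction m with
      | zero => intro x; rfl
      | succ m ihm =>
        intro x
        rw [pow_succ', pow_succ', Module.End.mul_apply, Module.End.mul_apply, LinearMap.sub_apply,
          LinearMap.sub_apply, Module.End.one_apply, Module.End.one_apply, map_sub, hcomm, ihm]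
    refine ⟨N + 1, LinearMap.ext fun x => ?_⟩
    have hmem : (((ComodLib.op g.toLinearMap : Module.End K V) - 1) ^ N) x ∈ U := by
      rw [← Submodule.Quotient.mk_eq_zero U, ← Submodule.mkQ_apply, hpow, hN, LinearMap.zero_apply]
    rw [pow_succ', Module.End.mul_apply, LinearMap.sub_apply, Module.End.one_apply, hfix _ hmem,
      sub_self, LinearMap.zero_apply]

theorem eq_one_of_pow_eq_one_of_isNilpotent {R : Type v} [Ring R] [Algebra K R] {T : R}
    (hT : IsNilpotent (T - 1)) {n : ℕ} (hpow : T ^ n = 1) (hn : (n : K) ≠ 0) : T = 1 := by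
  have hg : ((∑ i ∈ Finset.range n, T ^ i) * (T - 1)) = 0 := by rw [geom_sum_mul, hpow, sub_self]
  have hc : ∀ i : ℕ, Commute (T ^ i) (T - 1) := fun i =>
    ((Commute.refl T).pow_left i).sub_right (Commute.one_right _)
  have hnil : IsNilpotent ((∑ i ∈ Finset.range n, T ^ i) - (n : R)) := by
    rw [show (∑ i ∈ Finset.range n, T ^ i) - (n : R) = ∑ i ∈ Finset.range n, (T ^ i - 1) by
      simp [Finset.sum_sub_distrib]]
    have hfac : ∀ i, T ^ i - 1 = (∑ j ∈ Finset.range i, T ^ j) * (T - 1) := fun i =>
      (geom_sum_mul T i).symm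
    simp only [hfac, ← Finset.sum_mul]
    exact Commute.isNilpotent_mul_left (Commute.sum_left _ _ _ fun i _ =>
      Commute.sum_left _ _ _ fun j _ => hc j) hT
  have hu : IsUnit (∑ i ∈ Finset.range n, T ^ i) := by
    have hnu : IsUnit (n : R) := by
      rw [← map_natCast (algebraMap K R) n]
      exact (Ne.isUnit hn).map _
    simpa using hnil.isUnit_add_right_of_commute hnu (Nat.cast_commute n _).symm
  exact sub_eq_zero.1 (hu.mul_right_eq_zero.1 hg)

theorem eq_one_of_pow_eq_one_unipotent (hU : HopfRep.IsUnipotent K A) (g : WithConv (A →ₐ[K] K)) {n : ℕ}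
    (hpow : g ^ n = 1) (hn : (n : K) ≠ 0) : g = 1 := by
  have hψ : (toConv g.ofConv.toLinearMap) ^ n = (1 : WithConv (A →ₗ[K] K)) := by
    rw [← AlgHom.toLinearMap_convPow, hpow, AlgHom.toLinearMap_convOne]
  apply WithConv.ofConv_injective
  refine AlgHom.ext fun a => ?_
  obtain ⟨U, hfin, hs, hsub⟩ := ComodLib.exists_finite_subcomod_span (k := K) (A := A) (V := A)
    (Set.finite_singleton a)
  letI cU : HopfRep.Comod K A U := ComodSub.Comod.restr (HopfRep.Comod.regular K A) U hsub
  have hT : (ComodLib.rho K A U (toConv g.ofConv.toLinearMap)) = 1 := by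
    refine eq_one_of_pow_eq_one_of_isNilpotent (K := K) (R := Module.End K U) (n := n) ?_ ?_ hn
    · exact isNilpotent_op_sub_one hU g.ofConv _ U rfl
    · rw [← map_pow, hψ, map_one]
  have ha := LinearMap.congr_fun hT (⟨a, hs rfl⟩ : U)
  have hcoe : ∀ x : U, U.subtype (ComodLib.op g.ofConv.toLinearMap x) =
      ComodLib.op g.ofConv.toLinearMap (U.subtype x) := fun x =>
    ComodLib.isComodHom_op (ComodSub.isComodHom_subtype (HopfRep.Comod.regular K A) U hsub) _ x
  have h1 : ComodLib.op g.ofConv.toLinearMap a = a := by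
    refine ((hcoe ⟨a, hs rfl⟩).symm).trans ?_
    exact congrArg Subtype.val ha
  have h2 := congrArg (Coalgebra.counit (R := K) (A := A)) h1
  rw [ComodLib.op_apply, ← ComodLib.slice_rTensor] at h2
  have h3 : (Coalgebra.counit (R := K) (A := A)).rTensor A
      (HopfRep.Comod.coact (k := K) (A := A) a) = (1 : K) ⊗ₜ[K] a :=
    Coalgebra.rTensor_counit_comul a
  rw [h3, ComodLib.slice_tmul, smul_eq_mul, mul_one] at h2
  exact h2

end Groth.BddFin
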