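/-
Subfields of division algebras on which a polynomial splits; Wedderburn's factorisation in degree 3.
-/
import Groth.Agent.BddFin.Division

set_option linter.unusedSectionVars false
set_option linter.style.haveILetI false

open Polynomial

namespace Groth.BddFin

universe v

variable {K : Type*} {A : Type v} [Field K] [DivisionRing A] [Algebra K A]
  [FiniteDimensional K A]

/-- If a separable polynomial splits in `K[w]` with roots generating it, then `K[w]` is a Galois field. -/
theorem exists_galois_adjoin {w : A} (f : K[X]) (hf : f.Separable)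
    (s : Multiset A) (hs : ∀ r ∈ s, r ∈ Algebra.adjoin K ({w} : Set A))
    (hw : w ∈ s) (hroot : ∀ r ∈ s, aeval r f = 0) (hcard : f.natDegree = Multiset.card s)
    (hnd : s.Nodup) :
    ∃ (L : Type v) (_ : Field L) (_ : Algebra K L), IsGalois K L ∧
      Module.finrank K L = Module.finrank K (Algebra.adjoin K ({w} : Set A)) ∧
      Nonempty (L →ₐ[K] A) := by
  let B := Algebra.adjoin K ({w} : Set A)
  haveI : IsDomain B := inferInstance
  letI : DivisionRing B := divisionRingOfFiniteDimensional K B
  letI : Field B :=
    { (inferInstance : DivisionRing B) with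
      mul_comm := fun a b => Subtype.ext
        ((Algebra.commute_of_mem_adjoin_singleton_of_commute b.2
          (Algebra.commute_of_mem_adjoin_singleton_of_commute a.2 (Commute.refl w)).symm).eq) }
  refine ⟨B, inferInstance, inferInstance, ?_, rfl, ⟨B.val⟩⟩
  have hroot' : ∀ b : B, (b : A) ∈ s → b ∈ f.rootSet B := by
    intro b hb
    rw [mem_rootSet]
    refine ⟨hf.ne_zero, Subtype.ext ?_⟩
    rw [ZeroMemClass.coe_zero, ← hroot _ hb]
    exact (aeval_algHom_apply B.val b f).symm
  haveI : f.IsSplittingField K B := by
    constructor
    · refine splits_iff_card_roots.mpr (le_antisymm (card_roots' _) ?_)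
      rw [natDegree_map, hcard]
      let t : Multiset B := s.attach.map fun r => ⟨r.1, hs r.1 r.2⟩
      have ht : Multiset.card t = Multiset.card s := by simp [t]
      rw [← ht]
      apply Multiset.card_le_card
      refine (Multiset.le_iff_subset ?_).mpr ?_
      · exact (Multiset.nodup_attach.mpr hnd).map
          fun a b h => Subtype.ext (congrArg (Subtype.val : B → A) h)
      · intro b hb
        obtain ⟨r, _, rfl⟩ := Multiset.mem_map.mp hb
        have h := hroot' ⟨r.1, hs r.1 r.2⟩ r.2
        rw [mem_rootSet] at h
        rw [mem_roots_map h.1]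
        exact h.2
    · apply le_antisymm le_top
      let w' : B := ⟨w, Algebra.subset_adjoin rfl⟩
      rintro ⟨b, hb⟩ -
      have : b ∈ (Algebra.adjoin K (f.rootSet B)).map B.val := by
        refine (Algebra.adjoin_le ?_ : Algebra.adjoin K ({w} : Set A) ≤ _) hb
        rintro x rfl
        exact ⟨w', Algebra.subset_adjoin (hroot' w' hw), rfl⟩
      obtain ⟨x, hx, hxb⟩ := this
      have : x = ⟨b, hb⟩ := Subtype.ext hxb
      exact this ▸ hx
  exact IsGalois.of_separable_splitting_field hf

variable [Algebra.IsCentral K A] {p : ℕ} [hp : Fact p.Prime]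

/-- In a division algebra of degree `p`, an element `w` with `p` distinct roots of its minimal
polynomial commuting with it gives a Galois subfield of degree `p`. -/
theorem exists_galois_subfield (hA : Module.finrank K A = p ^ 2) {w : A}
    (hwK : w ∉ (algebraMap K A).range) (f : K[X]) (hf : f.Separable)
    (s : Multiset A) (hs : ∀ r ∈ s, Commute w r) (hw : w ∈ s)
    (hroot : ∀ r ∈ s, aeval r f = 0) (hcard : f.natDegree = Multiset.card s) (hnd : s.Nodup) :
    ∃ (L : Type v) (_ : Field L) (_ : Algebra K L), IsGalois K L ∧ Module.finrank K L = p ∧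
      Nonempty (L →ₐ[K] A) := by
  obtain ⟨L, i1, i2, h1, h2, h3⟩ := exists_galois_adjoin f hf s
    (fun r hr => mem_adjoin_of_commute hA hwK (hs r hr)) hw hroot hcard hnd
  exact ⟨L, i1, i2, h1, h2.trans (finrank_adjoin_singleton hA hwK), h3⟩

section Cubic

variable (α β : K)

/-- The quadratic relation between the last two roots `b`, `a` of a factorised cubic. -/
def quadForm (a b : A) : A := b * b + a * b + a * a + α • (a + b) + β • (1 : A)

/-- The cubic without its constant term. -/
def cubicForm (x : A) : A := x * x * x + α • (x * x) + β • x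

theorem semiconj_commutator {a b : A} (hQ : quadForm α β a b = 0)
    (hf : cubicForm α β b = cubicForm α β a) :
    (a * b - b * a) * a = b * (a * b - b * a) := by
  have key : (a * b - b * a) * a - b * (a * b - b * a) =
      quadForm α β a b * a - b * quadForm α β a b + (cubicForm α β b - cubicForm α β a) := by
    simp only [quadForm, cubicForm, add_mul, mul_add, sub_mul, mul_sub, smul_mul_assoc,
      mul_smul_comm, smul_add, one_mul, mul_one, mul_assoc]
    module
  rw [hQ, hf] at key
  simpa [sub_eq_zero] using key

theorem quadForm_next (a b : A) :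
    quadForm α β b (-(α • (1 : A)) - a - b) = quadForm α β a b := by
  simp only [quadForm, add_mul, mul_add, sub_mul, mul_sub, neg_mul, mul_neg, smul_mul_assoc,
    mul_smul_comm, smul_add, smul_sub, smul_neg, smul_smul, one_mul, mul_one, mul_assoc]
  module

theorem commutator_next (a b : A) :
    b * (-(α • (1 : A)) - a - b) - (-(α • (1 : A)) - a - b) * b = a * b - b * a := by
  simp only [add_mul, mul_add, sub_mul, mul_sub, neg_mul, mul_neg, smul_mul_assoc,
    mul_smul_comm, one_mul, mul_one]
  module

theorem cubicForm_next {a b : A} (hQ : quadForm α β a b = 0) :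
    cubicForm α β (-(α • (1 : A)) - a - b) = cubicForm α β a := by
  have key : cubicForm α β (-(α • (1 : A)) - a - b) - cubicForm α β a =
      (-(α • (1 : A)) - a - b) * quadForm α β a b - quadForm α β a b * a := by
    simp only [quadForm, cubicForm, add_mul, mul_add, sub_mul, mul_sub, neg_mul, mul_neg,
      smul_mul_assoc, mul_smul_comm, smul_add, smul_sub, smul_neg, smul_smul, one_mul, mul_one,
      mul_assoc]
    module
  rw [hQ] at key
  simpa [sub_eq_zero] using key

theorem quadForm_conj_mul (a a' : A) (hd : a' - a ≠ 0) :
    quadForm α β a ((a' - a) * a' * (a' - a)⁻¹) * (a' - a) =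
      cubicForm α β a' - cubicForm α β a := by
  have h1 : (a' - a) * a' * (a' - a)⁻¹ * (a' - a) = (a' - a) * a' := by
    rw [mul_assoc, inv_mul_cancel₀ hd, mul_one]
  set b := (a' - a) * a' * (a' - a)⁻¹ with hb
  clear_value b
  have h2 : b * b * (a' - a) = (a' - a) * a' * a' := by rw [mul_assoc, h1, ← mul_assoc, h1]
  have h3 : a * b * (a' - a) = a * ((a' - a) * a') := by rw [mul_assoc, h1]
  simp only [quadForm, add_mul, smul_mul_assoc, h1, h2, h3, one_mul]
  simp only [cubicForm, add_mul, mul_add, sub_mul, mul_sub, smul_mul_assoc, smul_add, smul_sub,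
    mul_assoc]
  module

/-- Wedderburn: a central division algebra of degree `3` has a Galois cubic subfield, or contains
an element outside the centre whose cube is central. -/
theorem cubic_cases {p : ℕ} [Fact p.Prime] (hp3 : p = 3)
    (hA : Module.finrank K A = p ^ 2) {a : A}
    (haK : a ∉ (algebraMap K A).range) (hsep : IsSeparable K a) :
    (∃ (L : Type v) (_ : Field L) (_ : Algebra K L), IsGalois K L ∧ Module.finrank K L = p ∧
        Nonempty (L →ₐ[K] A)) ∨
      ∃ v : A, v ∉ (algebraMap K A).range ∧ v ^ p ∈ (algebraMap K A).range := by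
  subst hp3
  set f := minpoly K a with hf
  have hint : IsIntegral K a := IsIntegral.of_finite K a
  have hdeg : f.natDegree = 3 := natDegree_minpoly hA haK
  have h3 : f.coeff 3 = 1 := hdeg ▸ minpoly.monic hint
  set α := f.coeff 2 with hα
  set β := f.coeff 1 with hβ
  have haev : ∀ x : A, aeval x f = cubicForm α β x + f.coeff 0 • (1 : A) := by
    intro x
    rw [aeval_eq_sum_range, hdeg]
    simp [Finset.sum_range_succ, h3, cubicForm, pow_succ, ← hα, ← hβ]
    abel
  have hroot_iff : ∀ x : A, aeval x f = 0 ↔ cubicForm α β x = cubicForm α β a := by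
    intro x
    have ha := haev a
    rw [hf, minpoly.aeval] at ha
    rw [haev]
    constructor
    · intro h; exact add_right_cancel (h.trans ha)
    · intro h; rw [h]; exact ha.symm
  obtain ⟨z, hz⟩ := exists_not_commute haK
  have hz0 : z ≠ 0 := by rintro rfl; simp at hz
  set a' := z * a * z⁻¹ with ha'
  have hd : a' - a ≠ 0 := by
    rw [sub_ne_zero]
    intro h
    apply hz
    calc z * a = z * a * z⁻¹ * z := by rw [mul_assoc _ z⁻¹, inv_mul_cancel₀ hz0, mul_one]
      _ = a * z := by rw [← ha', h]
  have hconj : ∀ (c x : A), c ≠ 0 → aeval x f = 0 → aeval (c * x * c⁻¹) f = 0 := by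
    intro c x hc hx
    have h : aeval (c * x * c⁻¹) f = c * aeval x f * c⁻¹ := by
      induction f using Polynomial.induction_on' with
      | add u w hu hw => simp only [map_add, hu, hw, mul_add, add_mul]
      | monomial n r =>
        have hn : (c * x * c⁻¹) ^ n = c * x ^ n * c⁻¹ := by
          induction n with
          | zero => simp [mul_inv_cancel₀ hc]
          | succ n ih =>
            rw [pow_succ, ih, pow_succ, mul_assoc (c * x ^ n) c⁻¹, ← mul_assoc c⁻¹,
              ← mul_assoc c⁻¹, inv_mul_cancel₀ hc, one_mul]
            simp only [mul_assoc]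
        rw [aeval_monomial, aeval_monomial, hn, ← mul_assoc c, ← Algebra.commutes r c]
        simp only [mul_assoc]
    rw [h, hx, mul_zero, zero_mul]
  set b := (a' - a) * a' * (a' - a)⁻¹ with hb
  have ha'0 : aeval a' f = 0 := hconj z a hz0 (minpoly.aeval K a)
  have hb0 : aeval b f = 0 := hconj _ a' hd ha'0
  have hQ : quadForm α β a b = 0 := by
    have h := quadForm_conj_mul α β a a' hd
    rw [(hroot_iff a').mp ha'0, sub_self] at h
    exact (mul_eq_zero.mp h).resolve_right hd
  set c := -(α • (1 : A)) - a - b with hc
  have hfc : cubicForm α β c = cubicForm α β a := cubicForm_next α β hQ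
  have hfb : cubicForm α β b = cubicForm α β a := (hroot_iff b).mp hb0
  by_cases hcom : a * b = b * a
  · left
    have hfe : f = X ^ 3 + C α * X ^ 2 + C β * X + C (f.coeff 0) := by
      conv_lhs => rw [as_sum_range_C_mul_X_pow f, hdeg]
      simp [Finset.sum_range_succ, h3, ← hα, ← hβ]
      ring
    have hder : derivative f = C (3 : K) * X ^ 2 + C (α * 2) * X + C β := by
      rw [hfe]
      simp [derivative_pow, mul_assoc]
    have hne : ∀ x : A, aeval x f = 0 → x * x + x * x + x * x + α • (x + x) + β • (1:A) ≠ 0 := by
      intro x hx h0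
      obtain ⟨u, w, huw⟩ := (hsep : f.Separable)
      have := congrArg (aeval x) huw
      rw [map_add, map_mul, map_mul, hx, mul_zero, zero_add, map_one, hder] at this
      have e : aeval x (C (3 : K) * X ^ 2 + C (α * 2) * X + C β) =
          x * x + x * x + x * x + α • (x + x) + β • (1 : A) := by
        simp only [map_add, map_mul, map_pow, aeval_X, aeval_C, Algebra.algebraMap_eq_smul_one,
          smul_mul_assoc, one_mul, pow_two]
        module
      rw [e, h0, mul_zero] at this
      exact zero_ne_one this
    have hab : a ≠ b := by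
      intro h
      rw [← h] at hQ
      exact hne a (minpoly.aeval K a) hQ
    have hac : a ≠ c := by
      intro h
      apply hne a (minpoly.aeval K a)
      have hb' : b = -(α • (1 : A)) - a - a := by
        rw [hc] at h
        calc b = -(α • (1 : A)) - a - (-(α • (1 : A)) - a - b) := by abel
          _ = _ := by rw [← h]
      rw [← hQ, hb']
      simp only [quadForm, add_mul, mul_add, sub_mul, mul_sub, neg_mul, mul_neg, smul_mul_assoc,
        mul_smul_comm, smul_add, smul_sub, smul_neg, smul_smul, one_mul, mul_one]
      module
    have hbc : b ≠ c := by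
      intro h
      apply hne b hb0
      have ha2 : a = -(α • (1 : A)) - b - b := by
        rw [hc] at h
        calc a = -(α • (1 : A)) - (-(α • (1 : A)) - a - b) - b := by abel
          _ = _ := by rw [← h]
      rw [← hQ, ha2]
      simp only [quadForm, add_mul, mul_add, sub_mul, mul_sub, neg_mul, mul_neg, smul_mul_assoc,
        mul_smul_comm, smul_add, smul_sub, smul_neg, smul_smul, one_mul, mul_one]
      module
    refine exists_galois_subfield hA haK f hsep (a ::ₘ b ::ₘ {c}) ?_ (by simp) ?_ (by simp [hdeg]) ?_
    · intro r hr
      simp only [Multiset.mem_cons, Multiset.mem_singleton] at hr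
      rcases hr with rfl | rfl | rfl
      · exact Commute.refl _
      · exact hcom
      · exact (((Commute.one_right a).smul_right α).neg_right.sub_right (Commute.refl a)).sub_right hcom
    · intro r hr
      simp only [Multiset.mem_cons, Multiset.mem_singleton] at hr
      rcases hr with rfl | rfl | rfl
      · exact minpoly.aeval K _
      · exact hb0
      · exact (hroot_iff _).mpr hfc
    · simp [hab, hac, hbc]
  · right
    set v := a * b - b * a with hv
    have hv0 : v ≠ 0 := sub_ne_zero.mpr hcom
    have h1 : v * a = b * v := semiconj_commutator α β hQ hfb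
    have h2 : v * b = c * v := by
      have := semiconj_commutator α β ((quadForm_next α β a b).trans hQ)
        ((hfc.trans hfb.symm))
      rwa [commutator_next] at this
    have hcv : v * c = a * v := by
      simp only [hc, mul_sub, mul_neg, mul_smul_comm, mul_one, h1, h2]
      simp only [hc, sub_mul, neg_mul, smul_mul_assoc, one_mul]
      abel
    have hva : Commute (v ^ 3) a := by
      show v ^ 3 * a = a * v ^ 3
      simp only [pow_succ, pow_zero, one_mul]
      simp only [mul_assoc]
      rw [h1, ← mul_assoc v b, h2, mul_assoc c, ← mul_assoc v c, hcv]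
      simp only [mul_assoc]
    have hvb : Commute (v ^ 3) b := by
      show v ^ 3 * b = b * v ^ 3
      simp only [pow_succ, pow_zero, one_mul]
      simp only [mul_assoc]
      rw [h2, ← mul_assoc v c, hcv, mul_assoc a, ← mul_assoc v a, h1]
      simp only [mul_assoc]
    refine ⟨v, ?_, mem_range_of_commute_pair hA hcom hva hvb⟩
    rintro ⟨r, hr⟩
    apply hcom
    have hab : a = b := by
      rw [← hr, Algebra.commutes r a] at h1
      exact mul_right_cancel₀ (hr ▸ hv0) h1
    rw [hab]

end Cubic

end Groth.BddFin
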